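import Cfsg.Agent.StCh.Count
import Cfsg.Agent.Chev.Card
import Cfsg.Agent.Chev.GoodAll

/-!
# The hypotheses of the Steinberg theory for the Chevalley groups
-/

set_option autoImplicit false

namespace CfsgLib.Chev

open Cfsg.Lie Matrix CfsgLib.BN CfsgLib.StCh
open scoped MatrixGroups

attribute [local instance] torus_normal

namespace Tab

variable {D : ChevalleyDatum}

namespace Good

variable {T : Tab D} (G : T.Good) {F : Type*} [Field F]
include G

/-- The simple reflection with a given index. -/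
def sref (F : Type*) [Field F] (i : Fin D.rank) : (G.bnPair F).S :=
  ⟨⟨G.full.ns F i, G.ns_mem_group i⟩, G.mem_simpleSet.mpr ⟨i, rfl⟩⟩

theorem sref_bijective : Function.Bijective (G.sref F) := by
  constructor
  · intro i j h
    have h' : G.full.ns F i = G.full.ns F j :=
      congrArg Subtype.val (congrArg Subtype.val h)
    have h2 : G.full.RootAct (G.full.ns F i) (G.full.refl j) := by rw [h']; exact G.rootAct_ns j
    exact G.refl_injective (G.rootAct_unique (G.rootAct_ns i) h2)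
  · rintro ⟨s, hs⟩
    obtain ⟨i, hi⟩ := G.mem_simpleSet.mp hs
    exact ⟨i, Subtype.ext (Subtype.ext hi.symm)⟩

theorem exists_index (s : (G.bnPair F).S) : ∃ i, G.sref F i = s := (G.sref_bijective).2 s

/-- The element of a word in the group. -/
noncomputable def nwG (F : Type*) [Field F] (L : List (Fin D.rank)) : D.group F :=
  ⟨G.full.nw F L, G.monomial_le_group (G.nw_mem_monomial L)⟩

/-- The image of a word in the Weyl group. -/
noncomputable def wrd (F : Type*) [Field F] (L : List (Fin D.rank)) : Weyl (G.bnPair F) :=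
  wprod (G.bnPair F) (L.map (G.sref F))

theorem wrd_eq (L : List (Fin D.rank)) :
    G.wrd F L = QuotientGroup.mk (⟨G.nwG F L, G.nw_mem_monomial L⟩ : (G.bnPair F).N) := by
  induction L with
  | nil =>
    rw [wrd, List.map_nil, wprod_nil, ← QuotientGroup.mk_one]
    congr 1
  | cons i L ih =>
    rw [wrd, List.map_cons, wprod_cons, show wprod (G.bnPair F) (L.map (G.sref F)) = G.wrd F L from rfl,
      ih, BN.refl, ← QuotientGroup.mk_mul]
    congr 1

theorem cellOf_nwG (L : List (Fin D.rank)) : cellOf (G.bnPair F) (G.nwG F L) = G.wrd F L :=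
  cellOf_eq (by rw [G.wrd_eq]; exact self_mem_cosetOf _ _)

theorem exists_wrd (w : Weyl (G.bnPair F)) : ∃ L, G.wrd F L = w := by
  obtain ⟨M, rfl⟩ := CfsgLib.BN.exists_word (G.bnPair F) w
  choose f hf using G.exists_index (F := F)
  refine ⟨M.map f, ?_⟩
  rw [wrd, List.map_map, show (G.sref F ∘ f) = id from funext hf, List.map_id]

theorem pw_of_wrd_eq {L L' : List (Fin D.rank)} (h : G.wrd F L = G.wrd F L') :
    G.full.pw L = G.full.pw L' := by
  rw [G.wrd_eq, G.wrd_eq, QuotientGroup.eq, Subgroup.mem_subgroupOf] at h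
  have h1 : ((G.nwG F L : GL D.Idx F))⁻¹ * G.nwG F L' ∈ D.diagonalSubgroup F := by
    rw [← G.borel_inf_monomial]
    exact Subgroup.mem_inf.mpr ⟨(Subgroup.mem_inf.mp h).1,
      mul_mem (inv_mem (G.nw_mem_monomial L)) (G.nw_mem_monomial L')⟩
  rw [G.full.diagonal_eq_range] at h1
  obtain ⟨c, hc⟩ := h1
  obtain ⟨d, hd⟩ := G.nw_hT (F := F) L c
  refine (G.pw_eq_of_nw (F := F) (c := d) ?_).symm
  rw [← hd, hc]
  exact (mul_inv_cancel_left _ _).symm

theorem wrd_append (L L' : List (Fin D.rank)) : G.wrd F (L ++ L') = G.wrd F L * G.wrd F L' := by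
  rw [wrd, List.map_append, wprod_append]; rfl

theorem wrd_singleton (i : Fin D.rank) : G.wrd F [i] = BN.refl (G.bnPair F) (G.sref F i) := by
  simp [wrd, wprod]

theorem lt_of_neg {L : List (Fin D.rank)} {i : Fin D.rank}
    (h : ¬ IsPos D (G.full.pw L (G.full.simp' i)).val) :
    len (G.bnPair F) (G.wrd F L * BN.refl (G.bnPair F) (G.sref F i)) < len (G.bnPair F) (G.wrd F L) := by
  obtain ⟨R, hR, hl⟩ := exists_reduced (G.bnPair F) (G.wrd F L)
  choose f hf using G.exists_index (F := F)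
  have hR' : G.wrd F (R.map f) = G.wrd F L := by
    rw [← hR, wrd, List.map_map, show (G.sref F ∘ f) = id from funext hf, List.map_id]
  rw [← G.pw_of_wrd_eq hR'] at h
  obtain ⟨L', hlen, c, hc⟩ := G.deletion (F := F) (R.map f) i h
  have e : G.wrd F L * BN.refl (G.bnPair F) (G.sref F i) = G.wrd F L' := by
    rw [← hR', ← G.wrd_singleton, ← G.wrd_append, G.wrd_eq, G.wrd_eq, QuotientGroup.eq,
      Subgroup.mem_subgroupOf]
    have hc' : G.full.nw F (R.map f ++ [i]) = T.hT F c * G.full.nw F L' := by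
      rw [G.nw_append, show G.full.nw F [i] = G.full.ns F i by simp [Full.nw]]
      exact hc
    refine Subgroup.mem_inf.mpr ⟨?_, mul_mem (inv_mem (G.nw_mem_monomial _)) (G.nw_mem_monomial _)⟩
    change (G.full.nw F (R.map f ++ [i]))⁻¹ * G.full.nw F L' ∈ D.borelSubgroup F
    rw [hc', _root_.mul_inv_rev, mul_assoc]
    have hd : T.hT F c ∈ D.diagonalSubgroup F := by rw [G.full.diagonal_eq_range]; exact ⟨c, rfl⟩
    have := G.diagonal_normal.conj_mem ⟨_, G.hT_mem_monomial c⁻¹⟩
      (by rw [Subgroup.mem_subgroupOf, G.full.diagonal_eq_range]; exact ⟨c⁻¹, rfl⟩)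
      ⟨_, inv_mem (G.nw_mem_monomial L')⟩
    rw [Subgroup.mem_subgroupOf] at this
    refine Subgroup.mem_sup_right ?_
    simpa [map_inv, mul_assoc] using this
  have h2 := len_le (G.bnPair F) (L'.map (G.sref F))
  rw [List.length_map] at h2 hlen
  rw [e, ← hl, ← hlen]
  exact Nat.lt_succ_of_le h2

/-- Descents are the fundamental roots made negative. -/
theorem lt_iff_neg {L : List (Fin D.rank)} {i : Fin D.rank} :
    len (G.bnPair F) (G.wrd F L * BN.refl (G.bnPair F) (G.sref F i)) < len (G.bnPair F) (G.wrd F L) ↔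
      ¬ IsPos D (G.full.pw L (G.full.simp' i)).val := by
  refine ⟨fun h hp => ?_, G.lt_of_neg⟩
  have h1 : ¬ IsPos D (G.full.pw (L ++ [i]) (G.full.simp' i)).val := by
    obtain ⟨c, hc⟩ := G.rootAct_nw (F := ℚ) L
    rw [G.pw_append, Equiv.Perm.mul_apply, G.pw_singleton, G.refl_simp, (hc _).1, G.pos_negF,
      not_not]
    exact hp
  have h2 := G.lt_of_neg (F := F) h1
  rw [G.wrd_append, G.wrd_singleton, mul_refl_refl] at h2
  omega

/-- The root has a coordinate outside `J`. -/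
def IsOut (F : Type*) [Field F] (J : Finset (G.bnPair F).S) (s : ℕ) : Prop :=
  ∃ j : Fin D.rank, G.sref F j ∉ J ∧ T.cor s j ≠ 0

theorem exists_wrd_wJ {J : Finset (G.bnPair F).S} {w : Weyl (G.bnPair F)}
    (hw : WJ (G.bnPair F) (J : Set (G.bnPair F).S) w) :
    ∃ L, G.wrd F L = w ∧ ∀ i ∈ L, G.sref F i ∈ J := by
  obtain ⟨M, hM, rfl⟩ := hw
  choose f hf using G.exists_index (F := F)
  refine ⟨M.map f, ?_, fun i hi => ?_⟩
  · rw [wrd, List.map_map, show (G.sref F ∘ f) = id from funext hf, List.map_id]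
  · obtain ⟨s, hs, rfl⟩ := List.mem_map.mp hi
    rw [hf]
    exact hM s hs

theorem wJ_wrd {J : Finset (G.bnPair F).S} {L : List (Fin D.rank)} (h : ∀ i ∈ L, G.sref F i ∈ J) :
    WJ (G.bnPair F) (J : Set (G.bnPair F).S) (G.wrd F L) :=
  ⟨L.map (G.sref F), fun s hs => by
    obtain ⟨i, hi, rfl⟩ := List.mem_map.mp hs
    exact h i hi, rfl⟩

theorem cor_pw_out {J : Finset (G.bnPair F).S} {L : List (Fin D.rank)}
    (h : ∀ i ∈ L, G.sref F i ∈ J) (s : Fin D.nroots) {j : Fin D.rank} (hj : G.sref F j ∉ J) :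
    T.cor (G.full.pw L s) j = T.cor s j := by
  have hmem : G.full.pw L ∈ G.full.WJ (L.map Fin.val) := list_prod_mem fun σ hσ => by
    obtain ⟨a, ha, rfl⟩ := List.mem_map.mp hσ
    exact G.refl_mem (List.mem_map.mpr ⟨a, ha, rfl⟩)
  refine G.cor_out hmem s (fun hm => ?_)
  obtain ⟨a, ha, e⟩ := List.mem_map.mp hm
  rw [Fin.ext e] at ha
  exact hj (h j ha)

theorem isOut_pw {J : Finset (G.bnPair F).S} {L : List (Fin D.rank)}
    (h : ∀ i ∈ L, G.sref F i ∈ J) (s : Fin D.nroots) :
    G.IsOut F J (G.full.pw L s).val ↔ G.IsOut F J s.val :=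
  exists_congr fun j => and_congr_right fun hj => by rw [G.cor_pw_out h s hj]

/-- A word whose image has all descents in `J`. -/
theorem pos_pw_iff {J : Finset (G.bnPair F).S} {L : List (Fin D.rank)}
    (h : ∀ i ∈ L, G.sref F i ∈ J)
    (hd : ∀ i, G.sref F i ∈ J → ¬ IsPos D (G.full.pw L (G.full.simp' i)).val)
    {s : Fin D.nroots} (hs : IsPos D s.val) :
    IsPos D (G.full.pw L s).val ↔ G.IsOut F J s.val := by
  constructor
  · intro hp
    by_contra hno
    simp only [IsOut, not_exists, not_and, not_not] at hno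
    obtain ⟨j, hj⟩ := G.exists_cor_ne_zero (F := ℚ) (G.full.pw L s).isLt
    have hle : T.cor (G.full.pw L s) j ≤ 0 := by
      rw [G.cor_linear (J := List.range D.rank) (G.pw_mem_full L)]
      refine Finset.sum_nonpos fun l _ => ?_
      by_cases hl : G.sref F l ∈ J
      · exact mul_nonpos_of_nonneg_of_nonpos ((G.pos_iff_cor s.isLt).mp hs l)
          ((G.cor_sign (Fin.isLt _) j.isLt).2 (fun h2 => hd l hl ⟨Fin.isLt _, h2⟩))
      · rw [hno l hl, zero_mul]
    have hge := (G.pos_iff_cor (G.full.pw L s).isLt).mp hp j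
    exact hj (by rw [show T.cor (G.full.pw L s) j = 0 by omega]; simp)
  · rintro ⟨j, hj, hne⟩
    refine G.pos_of_cor_pos (Fin.isLt _) j.isLt ?_
    rw [G.cor_pw_out h s hj]
    exact lt_of_le_of_ne ((G.pos_iff_cor s.isLt).mp hs j) (Ne.symm hne)

theorem exists_maxJ [Finite (D.group F)] (J : Finset (G.bnPair F).S) :
    ∃ w, WJ (G.bnPair F) (J : Set (G.bnPair F).S) w ∧
      ∀ v, WJ (G.bnPair F) (J : Set (G.bnPair F).S) v → len (G.bnPair F) v ≤ len (G.bnPair F) w := by
  classical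
  haveI : Finite (Weyl (G.bnPair F)) := Quotient.finite _
  haveI : Fintype (Weyl (G.bnPair F)) := Fintype.ofFinite _
  obtain ⟨w, hw, hmax⟩ := Finset.exists_max_image
    (Finset.univ.filter (WJ (G.bnPair F) (J : Set (G.bnPair F).S))) (len (G.bnPair F))
    ⟨1, Finset.mem_filter.mpr ⟨Finset.mem_univ _, wJ_one _⟩⟩
  exact ⟨w, (Finset.mem_filter.mp hw).2,
    fun v hv => hmax v (Finset.mem_filter.mpr ⟨Finset.mem_univ _, hv⟩)⟩

/-- The longest element of `W_J`. -/
noncomputable def wlong (F : Type*) [Field F] [Finite (D.group F)] (J : Finset (G.bnPair F).S) :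
    Weyl (G.bnPair F) := (G.exists_maxJ J).choose

theorem wlong_descent [Finite (D.group F)] (J : Finset (G.bnPair F).S) {s : (G.bnPair F).S}
    (hs : s ∈ J) :
    len (G.bnPair F) (G.wlong F J * BN.refl (G.bnPair F) s) < len (G.bnPair F) (G.wlong F J) :=
  (len_lt_or _ s).resolve_left (not_lt.mpr ((G.exists_maxJ J).choose_spec.2 _
    (wJ_mul (G.exists_maxJ J).choose_spec.1 (wJ_refl hs))))

theorem eq_wlong [Finite (D.group F)] (J : Finset (G.bnPair F).S) {w : Weyl (G.bnPair F)}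
    (hw : WJ (G.bnPair F) (J : Set (G.bnPair F).S) w)
    (hd : ∀ s ∈ J, len (G.bnPair F) (w * BN.refl (G.bnPair F) s) < len (G.bnPair F) w) :
    w = G.wlong F J := by
  obtain ⟨L, rfl, hL⟩ := G.exists_wrd_wJ hw
  obtain ⟨L', hL'e, hL'⟩ := G.exists_wrd_wJ (G.exists_maxJ J).choose_spec.1
  rw [wlong, ← hL'e]
  have key : ∀ M, (∀ i ∈ M, G.sref F i ∈ J) →
      (∀ s ∈ J, len (G.bnPair F) (G.wrd F M * BN.refl (G.bnPair F) s) < len (G.bnPair F) (G.wrd F M)) →
      ∀ s : Fin D.nroots, IsPos D s.val → (IsPos D (G.full.pw M s).val ↔ G.IsOut F J s.val) :=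
    fun M hM hMd s hs => G.pos_pw_iff hM (fun i hi => G.lt_iff_neg.mp (hMd _ hi)) hs
  have k1 := key L hL hd
  have k2 := key L' hL' fun s hs => by rw [hL'e]; exact G.wlong_descent J hs
  rw [G.wrd_eq, G.wrd_eq, QuotientGroup.eq, Subgroup.mem_subgroupOf]
  refine Subgroup.mem_inf.mpr ⟨?_, mul_mem (inv_mem (G.nw_mem_monomial _)) (G.nw_mem_monomial _)⟩
  change (G.full.nw F L)⁻¹ * G.full.nw F L' ∈ D.borelSubgroup F
  refine Subgroup.mem_sup_right ?_
  obtain ⟨L'', hL''⟩ := G.exists_rootAct (inv_mem (G.nw_mem_monomial (F := F) L))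
  have hinv : G.full.pw L'' = (G.full.pw L)⁻¹ := by
    have e := G.rootAct_unique (G.rootAct_mul hL'' (G.rootAct_nw (F := F) L))
      (by rw [inv_mul_cancel]; exact G.rootAct_one)
    exact mul_eq_one_iff_eq_inv.mp e
  rw [hinv] at hL''
  refine G.mem_diagonal_of_pos (mul_mem (inv_mem (G.nw_mem_monomial _)) (G.nw_mem_monomial _))
    (G.rootAct_mul hL'' (G.rootAct_nw L')) fun s hs => ?_
  rw [Equiv.Perm.mul_apply]
  set r := (G.full.pw L)⁻¹ (G.full.pw L' s) with hr
  have hr' : G.full.pw L r = G.full.pw L' s := by simp [hr]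
  by_contra hn
  have h2 : G.IsOut F J r.val ↔ G.IsOut F J s.val := by
    rw [← G.isOut_pw hL r, hr', G.isOut_pw hL' s]
  have hcor : ∀ (x : Fin D.nroots) (j : Fin D.rank), T.cor (negF x) j = - T.cor x j :=
    fun x j => ((G.full.cert.root_spec x.isLt).2.2.2.1 j j.isLt).2
  have hout : G.IsOut F J (negF r).val ↔ G.IsOut F J r.val :=
    exists_congr fun j => and_congr_right fun _ => by rw [hcor r j, ne_eq, neg_eq_zero]
  have h3 := k1 (negF r) (G.pos_negF.mpr hn)
  have h4 := k2 s hs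
  obtain ⟨c, hc⟩ := G.rootAct_nw (F := ℚ) L
  rw [(hc r).1, hr', G.pos_negF, hout, h2] at h3
  tauto

theorem hasLongest [Finite (D.group F)] : HasLongest (G.bnPair F) (G.wlong F) := fun J w =>
  ⟨fun h => G.eq_wlong J h.1 h.2,
    fun h => h ▸ ⟨(G.exists_maxJ J).choose_spec.1, fun _ hs => G.wlong_descent J hs⟩⟩

end Good

end Tab

end CfsgLib.Chev
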