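import Mathlib.GroupTheory.Sylow
import Mathlib.GroupTheory.GroupAction.Quotient
import Mathlib.GroupTheory.OrderOfElement
import Mathlib.Data.Nat.Factorization.Basic
import Mathlib.Data.Nat.ChineseRemainder
import Mathlib.Analysis.Complex.Basic
import Mathlib.Algebra.BigOperators.Ring.Finset

/-!
# Sums over a coset of a normalised `p`-subgroup
-/

set_option autoImplicit false
set_option linter.style.haveILetI false
set_option linter.unusedSectionVars false

namespace CfsgLib.StCh

variable {G : Type*} [Group G] [Fintype G]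

/-- The orbits of `R` on `X` mapped to themselves by `g`. -/
def fixedOrbits {X : Type*} [MulAction G X] (R : Subgroup G) (g : G) :
    Set (MulAction.orbitRel.Quotient R X) :=
  {o | ∃ y, Quotient.mk'' y = o ∧ g • y ∈ MulAction.orbit R y}

theorem smul_mem_orbit_iff {X : Type*} [MulAction G X] {R : Subgroup G} {g : G}
    (hg : g ∈ Subgroup.normalizer (R : Set G)) {y z : X} (h : z ∈ MulAction.orbit R y) :
    g • z ∈ MulAction.orbit R z ↔ g • y ∈ MulAction.orbit R y := by
  obtain ⟨⟨r, hr⟩, rfl⟩ := h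
  have hr' : g * r * g⁻¹ ∈ R := (Subgroup.mem_normalizer_iff.1 hg r).1 hr
  change g • r • y ∈ MulAction.orbit R (r • y) ↔ _
  rw [show MulAction.orbit R (r • y) = MulAction.orbit R y from
    MulAction.orbit_smul (⟨r, hr⟩ : R) y,
    show g • r • y = (⟨g * r * g⁻¹, hr'⟩ : R) • (g • y) by
      show g • r • y = (g * r * g⁻¹) • g • y; simp [smul_smul, mul_assoc]]
  exact MulAction.mem_orbit_symm.trans <| by
    rw [MulAction.orbit_smul, MulAction.mem_orbit_symm]

open scoped Classical in
/-- The fixed points of the elements of a coset count the orbits fixed. -/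
theorem sum_card_fixed {X : Type*} [Finite X] [MulAction G X] (R : Subgroup G) {g : G}
    (hg : g ∈ Subgroup.normalizer (R : Set G)) :
    ∑ u : R, Nat.card {y : X // (g * (u : G)) • y = y} =
      Nat.card R * Nat.card (fixedOrbits (X := X) R g) := by
  haveI : Fintype X := Fintype.ofFinite X
  have e1 : ∀ u : R, Nat.card {y : X // (g * (u : G)) • y = y} =
      ∑ y : X, if (g * (u : G)) • y = y then 1 else 0 := fun u => by
    rw [Nat.card_eq_fintype_card, Fintype.card_subtype, Finset.card_filter]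
  simp only [e1]
  rw [Finset.sum_comm]
  have hval : ∀ y : X, (∑ u : R, if (g * (u : G)) • y = y then 1 else 0) =
      if g • y ∈ MulAction.orbit R y then Fintype.card (MulAction.stabilizer R y) else 0 := by
    intro y
    rw [← Finset.card_filter]
    split_ifs with h
    · obtain ⟨r, hr⟩ : ∃ r : R, r • y = g⁻¹ • y := by
        obtain ⟨r, hr⟩ := h
        have hr' : g⁻¹ * (r : G)⁻¹ * g ∈ R := by
          have := (Subgroup.mem_normalizer_iff''.1 hg ((r : G)⁻¹)).1 (inv_mem r.2)
          exact this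
        refine ⟨⟨_, hr'⟩, ?_⟩
        show (g⁻¹ * (r : G)⁻¹ * g) • y = g⁻¹ • y
        rw [mul_smul, mul_smul, ← hr]
        show g⁻¹ • (r : G)⁻¹ • (r : G) • y = _
        rw [inv_smul_smul]
      rw [← Fintype.card_subtype]
      refine Fintype.card_congr ((Equiv.mulLeft r⁻¹).subtypeEquiv fun u => ?_)
      rw [MulAction.mem_stabilizer_iff]
      show (g * (u : G)) • y = y ↔ (r⁻¹ * u) • y = y
      rw [mul_smul r⁻¹, inv_smul_eq_iff, hr, mul_smul, smul_eq_iff_eq_inv_smul]
      rfl
    · rw [Finset.card_eq_zero, Finset.filter_eq_empty_iff]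
      intro u _ hu
      refine h ⟨(⟨g * (u : G)⁻¹ * g⁻¹, (Subgroup.mem_normalizer_iff.1 hg _).1 (inv_mem u.2)⟩ : R), ?_⟩
      show (g * (u : G)⁻¹ * g⁻¹) • y = g • y
      conv_lhs => rw [← hu]
      rw [smul_smul]
      congr 1
      group
  rw [Finset.sum_congr rfl fun y _ => hval y,
    ← Finset.sum_fiberwise Finset.univ (fun y : X => (Quotient.mk'' y : MulAction.orbitRel.Quotient R X)),
    Nat.card_eq_fintype_card, Nat.card_eq_fintype_card]
  have hO : ∀ o : MulAction.orbitRel.Quotient R X,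
      (∑ y ∈ Finset.univ.filter fun y : X => (Quotient.mk'' y : MulAction.orbitRel.Quotient R X) = o,
        if g • y ∈ MulAction.orbit R y then Fintype.card (MulAction.stabilizer R y) else 0) =
        if o ∈ fixedOrbits (X := X) R g then Fintype.card R else 0 := by
    intro o
    induction o using Quotient.inductionOn' with | _ y₀ => ?_
    have hset : (Finset.univ.filter fun y : X => (Quotient.mk'' y : MulAction.orbitRel.Quotient R X) =
        Quotient.mk'' y₀) = (MulAction.orbit R y₀).toFinset := by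
      ext y
      simp [Quotient.eq'', MulAction.orbitRel_apply]
    have hiff : (Quotient.mk'' y₀ : MulAction.orbitRel.Quotient R X) ∈ fixedOrbits (X := X) R g ↔
        g • y₀ ∈ MulAction.orbit R y₀ := by
      refine ⟨fun ⟨y, hy, h⟩ => ?_, fun h => ⟨y₀, rfl, h⟩⟩
      rw [Quotient.eq'', MulAction.orbitRel_apply] at hy
      exact (smul_mem_orbit_iff hg hy).1 h
    rw [hset]
    simp only [hiff]
    split_ifs with h
    · have hstab : ∀ y ∈ (MulAction.orbit R y₀).toFinset,
          (if g • y ∈ MulAction.orbit R y then Fintype.card (MulAction.stabilizer R y) else 0) =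
            Fintype.card (MulAction.stabilizer R y₀) := by
        intro y hy
        rw [Set.mem_toFinset] at hy
        rw [if_pos ((smul_mem_orbit_iff hg hy).2 h)]
        exact Fintype.card_congr (MulAction.stabilizerEquivStabilizerOfOrbitRel hy).toEquiv
      rw [Finset.sum_congr rfl hstab, Finset.sum_const, Set.toFinset_card, smul_eq_mul]
      exact MulAction.card_orbit_mul_card_stabilizer_eq_card_group R y₀
    · refine Finset.sum_eq_zero fun y hy => ?_
      rw [Set.mem_toFinset] at hy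
      rw [if_neg fun h' => h ((smul_mem_orbit_iff hg hy).1 h')]
  rw [Finset.sum_congr rfl fun o _ => hO o, ← Finset.sum_filter, Finset.sum_const, smul_eq_mul,
    mul_comm, ← Fintype.card_subtype]

variable {p : ℕ} [Fact p.Prime]

/-- An exponent picking out the `p'`-part of every element. -/
theorem exists_reg_exponent :
    ∃ a : ℕ, (∀ s : G, ¬ p ∣ orderOf s → s ^ a = s) ∧
      (∀ v : G, (∃ k, orderOf v = p ^ k) → v ^ a = 1) ∧ ∀ x : G, ¬ p ∣ orderOf (x ^ a) := by
  have hp := (Fact.out : p.Prime)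
  set e := (Nat.card G).factorization p
  set m := Nat.card G / p ^ e
  have hm : ¬ p ∣ m := Nat.not_dvd_ordCompl hp Nat.card_pos.ne'
  have hcard : p ^ e * m = Nat.card G := Nat.ordProj_mul_ordCompl_eq_self _ p
  have hcop : (p ^ e).Coprime m := Nat.Coprime.pow_left _ ((hp.coprime_iff_not_dvd).2 hm)
  obtain ⟨a, ha0, ha1⟩ := Nat.chineseRemainder hcop 0 1
  have hpe : p ^ e ∣ a := Nat.modEq_zero_iff_dvd.1 ha0
  refine ⟨a, fun s hs => ?_, fun v hv => ?_, fun x hx => ?_⟩
  · have hd : orderOf s ∣ m := by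
      refine (Nat.Coprime.dvd_mul_left ?_).1 (hcard ▸ orderOf_dvd_natCard s)
      exact Nat.Coprime.symm (Nat.Coprime.pow_left _ ((hp.coprime_iff_not_dvd).2 hs))
    conv_rhs => rw [← pow_one s]
    exact pow_eq_pow_iff_modEq.2 (Nat.ModEq.of_dvd hd ha1)
  · obtain ⟨k, hk⟩ := hv
    have hd : orderOf v ∣ p ^ e := by
      refine (Nat.Coprime.dvd_mul_right ?_).1 (hcard ▸ orderOf_dvd_natCard v)
      rw [hk]
      exact Nat.Coprime.pow_left _ ((hp.coprime_iff_not_dvd).2 hm)
    exact orderOf_dvd_iff_pow_eq_one.1 (hd.trans hpe)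
  · refine hm (hx.trans (orderOf_dvd_iff_pow_eq_one.2 ?_))
    rw [← pow_mul]
    exact orderOf_dvd_iff_pow_eq_one.1 ((orderOf_dvd_natCard x).trans
      (hcard ▸ mul_dvd_mul_right hpe m))

theorem mul_pow_mem {R : Subgroup G} {g : G} (hg : g ∈ Subgroup.normalizer (R : Set G)) {u : G}
    (hu : u ∈ R) : ∀ n : ℕ, (g ^ n)⁻¹ * (g * u) ^ n ∈ R := by
  intro n
  induction n with
  | zero => simp
  | succ n ih =>
    have h := (Subgroup.mem_normalizer_iff''.1 hg _).1 ih
    have e : (g ^ (n + 1))⁻¹ * (g * u) ^ (n + 1) = g⁻¹ * ((g ^ n)⁻¹ * (g * u) ^ n) * g * u := by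
      rw [pow_succ g, pow_succ (g * u)]
      group
    rw [e]
    exact mul_mem h hu

open scoped Classical in
/-- A class function vanishing on `p`-singular elements, summed over a coset. -/
theorem sum_coset {R : Subgroup G} (hR : IsPGroup p R) {g : G} (hreg : ¬ p ∣ orderOf g)
    (hg : g ∈ Subgroup.normalizer (R : Set G)) {f : G → ℂ} (hf : ∀ x y, f (y * x * y⁻¹) = f x)
    (h0 : ∀ x, p ∣ orderOf x → f x = 0) :
    (Nat.card {v : R // (v : G) * g = g * v} : ℂ) * ∑ u : R, f (g * (u : G)) =
      (Nat.card R : ℂ) * f g := by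
  obtain ⟨a, haS, haV, haR⟩ := exists_reg_exponent (G := G) (p := p)
  let C : R → Finset R := fun u => Finset.univ.filter fun v : R =>
    (v : G) * (g * (u : G)) = g * (u : G) * v
  let S : Finset R := Finset.univ.filter fun u : R => ¬ p ∣ orderOf (g * (u : G))
  have hpow : ∀ v : R, ∃ k, orderOf (v : G) = p ^ k := fun v => by
    obtain ⟨k, hk⟩ := IsPGroup.iff_orderOf.1 hR v
    exact ⟨k, by rwa [Subgroup.orderOf_coe]⟩
  -- the regular part
  have hga : g ^ a = g := haS g hreg
  have hmem : ∀ u : R, g⁻¹ * (g * (u : G)) ^ a ∈ R := fun u => by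
    have := mul_pow_mem hg u.2 a
    rwa [hga] at this
  let φ : R → R := fun u => ⟨g⁻¹ * (g * (u : G)) ^ a, hmem u⟩
  have hφ : ∀ u : R, g * (φ u : G) = (g * (u : G)) ^ a := fun u => mul_inv_cancel_left g _
  have hcount : Fintype.card R = ∑ s ∈ S, (C s).card := by
    rw [← Finset.card_univ, Finset.card_eq_sum_card_fiberwise (f := φ) (t := S) fun u _ =>
      Finset.mem_coe.2 (Finset.mem_filter.2 ⟨Finset.mem_univ _, by rw [hφ]; exact haR _⟩)]
    refine Finset.sum_congr rfl fun s hs => ?_
    have hs' : ¬ p ∣ orderOf (g * (s : G)) := (Finset.mem_filter.1 hs).2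
    refine Finset.card_bij' (fun u _ => (⟨(g * (s : G))⁻¹ * (g * (u : G)), by
        rw [show (g * (s : G))⁻¹ * (g * (u : G)) = (s : G)⁻¹ * u by group]
        exact mul_mem (inv_mem s.2) u.2⟩ : R)) (fun v _ => s * v) ?_ ?_ ?_ ?_
    · intro u hu
      have hu' : φ u = s := (Finset.mem_filter.1 hu).2
      refine Finset.mem_filter.2 ⟨Finset.mem_univ _, ?_⟩
      have e : g * (s : G) = (g * (u : G)) ^ a := by rw [← hu', hφ]
      show ((g * (s : G))⁻¹ * (g * (u : G))) * (g * (s : G)) = g * (s : G) * ((g * (s : G))⁻¹ * (g * (u : G)))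
      rw [mul_inv_cancel_left, mul_assoc, inv_mul_eq_iff_eq_mul, e, ← pow_succ, ← pow_succ']
    · intro v hv
      have hv' : (v : G) * (g * (s : G)) = g * (s : G) * v := (Finset.mem_filter.1 hv).2
      refine Finset.mem_filter.2 ⟨Finset.mem_univ _, Subtype.ext ?_⟩
      show g⁻¹ * (g * ((s : G) * (v : G))) ^ a = s
      rw [← mul_assoc g, (show Commute (g * (s : G)) (v : G) from hv'.symm).mul_pow, haS _ hs',
        haV _ (hpow v), mul_one, inv_mul_cancel_left]
    · intro u _; exact Subtype.ext (by simp only [Subgroup.coe_mul]; group)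
    · intro v _; exact Subtype.ext (by simp only [Subgroup.coe_mul]; group)
  -- the regular elements form one orbit
  have hc : ∀ r : R, g⁻¹ * ((r : G) * g * (r : G)⁻¹) ∈ R := fun r => by
    rw [show g⁻¹ * ((r : G) * g * (r : G)⁻¹) = g⁻¹ * (r : G) * g * (r : G)⁻¹ by group]
    exact mul_mem ((Subgroup.mem_normalizer_iff''.1 hg _).1 r.2) (inv_mem r.2)
  let ψ : R → R := fun r => ⟨g⁻¹ * ((r : G) * g * (r : G)⁻¹), hc r⟩
  have hψ : ∀ r : R, g * (ψ r : G) = (r : G) * g * (r : G)⁻¹ := fun r => mul_inv_cancel_left g _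
  have hψS : ∀ r : R, ψ r ∈ S := fun r => Finset.mem_filter.2 ⟨Finset.mem_univ _, by
    rw [hψ, show (r : G) * g * (r : G)⁻¹ = MulAut.conj (r : G) g from rfl, MulEquiv.orderOf_eq]
    exact hreg⟩
  set c := Nat.card {v : R // (v : G) * g = g * v} with hcdef
  have hfib : ∀ r : R, (Finset.univ.filter fun r' => ψ r' = ψ r).card = c := by
    intro r
    rw [hcdef, Nat.card_eq_fintype_card, ← Fintype.card_subtype]
    refine Fintype.card_congr ((Equiv.mulLeft r⁻¹).subtypeEquiv fun r' => ?_)
    show ψ r' = ψ r ↔ ((r⁻¹ * r' : R) : G) * g = g * ((r⁻¹ * r' : R) : G)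
    rw [Subtype.ext_iff]
    show g⁻¹ * ((r' : G) * g * (r' : G)⁻¹) = g⁻¹ * ((r : G) * g * (r : G)⁻¹) ↔ _
    rw [mul_right_inj, Subgroup.coe_mul, Subgroup.coe_inv]
    constructor
    · intro h
      calc (r : G)⁻¹ * (r' : G) * g = (r : G)⁻¹ * ((r' : G) * g * (r' : G)⁻¹) * r' := by group
        _ = _ := by rw [h]; group
    · intro h
      calc (r' : G) * g * (r' : G)⁻¹ = (r : G) * ((r : G)⁻¹ * (r' : G) * g) * (r' : G)⁻¹ := by group
        _ = _ := by rw [h]; group
  have hcpos : 0 < c := by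
    haveI : Nonempty {v : R // (v : G) * g = g * v} := ⟨⟨1, by simp⟩⟩
    exact Nat.card_pos
  set O := Finset.univ.image ψ with hO
  have hOS : O ⊆ S := fun s hs => by
    obtain ⟨r, -, rfl⟩ := Finset.mem_image.1 hs; exact hψS r
  have hOcard : O.card * c = Fintype.card R := by
    rw [← Finset.card_univ, Finset.card_eq_sum_card_image ψ Finset.univ,
      Finset.sum_congr rfl (g := fun _ => c) ?_, Finset.sum_const, smul_eq_mul]
    intro s hs
    obtain ⟨r, -, rfl⟩ := Finset.mem_image.1 hs
    exact hfib r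
  have hCO : ∀ s ∈ O, (C s).card = c := by
    intro s hs
    obtain ⟨r, -, rfl⟩ := Finset.mem_image.1 hs
    rw [hcdef, Nat.card_eq_fintype_card, ← Fintype.card_subtype]
    refine Fintype.card_congr (((MulAut.conj r⁻¹).toEquiv).subtypeEquiv fun v => ?_)
    show (v : G) * (g * (ψ r : G)) = g * (ψ r : G) * v ↔
      ((r⁻¹ * v * (r⁻¹)⁻¹ : R) : G) * g = g * ((r⁻¹ * v * (r⁻¹)⁻¹ : R) : G)
    rw [hψ]
    simp only [Subgroup.coe_mul, Subgroup.coe_inv, inv_inv]
    constructor
    · intro h
      calc (r : G)⁻¹ * v * r * g = (r : G)⁻¹ * ((v : G) * ((r : G) * g * (r : G)⁻¹)) * r := by group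
        _ = _ := by rw [h]; group
    · intro h
      calc (v : G) * ((r : G) * g * (r : G)⁻¹) = (r : G) * ((r : G)⁻¹ * v * r * g) * (r : G)⁻¹ := by
            group
        _ = _ := by rw [h]; group
  have hSO : S = O := by
    refine (Finset.Subset.antisymm ?_ hOS)
    intro s hs
    by_contra hn
    have h1 : ∑ t ∈ O, (C t).card + (C s).card ≤ ∑ t ∈ S, (C t).card := by
      rw [add_comm, ← Finset.sum_insert (f := fun t => (C t).card) hn]
      exact Finset.sum_le_sum_of_subset (Finset.insert_subset hs hOS)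
    rw [Finset.sum_congr rfl hCO, Finset.sum_const, smul_eq_mul, hOcard, ← hcount] at h1
    have : (1 : R) ∈ C s := Finset.mem_filter.2 ⟨Finset.mem_univ _, by simp⟩
    have := Finset.card_pos.2 ⟨_, this⟩
    omega
  have hsum : ∑ u : R, f (g * (u : G)) = (O.card : ℂ) * f g := by
    rw [← Finset.sum_subset (Finset.subset_univ S) fun u _ hu => h0 _ (by
      simpa [S] using hu), hSO, Finset.sum_congr rfl (g := fun _ => f g) ?_, Finset.sum_const,
      nsmul_eq_mul]
    intro s hs
    obtain ⟨r, -, rfl⟩ := Finset.mem_image.1 hs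
    rw [hψ, hf]
  rw [hsum, ← mul_assoc, ← Nat.cast_mul, mul_comm c, hOcard, Nat.card_eq_fintype_card]

end CfsgLib.StCh
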