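import Cfsg.Agent.StCh.Character
import Cfsg.Agent.StCh.CosetSum

/-!
# Steinberg character values at semisimple elements

If `g` lies in `P_K` and in no smaller conjugate parabolic, only one double coset survives in the
orbit count of the unipotent radical, and the value is, up to sign, the number of fixed points of
`g` in that radical.
-/

set_option autoImplicit false
set_option linter.style.haveILetI false
set_option linter.unusedSectionVars false

namespace CfsgLib.StCh

open Cfsg CfsgLib.BN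

attribute [local instance] torus_normal

variable {G : Type*} [Group G] {P : Cfsg.BNPair G}

section Lengths

theorem len_mul_le (u v : Weyl P) : len P (u * v) ≤ len P u + len P v := by
  obtain ⟨L, rfl, hL⟩ := exists_reduced P u
  obtain ⟨M, rfl, hM⟩ := exists_reduced P v
  rw [← wprod_append, ← hL, ← hM, ← List.length_append]
  exact len_le P _

theorem len_refl (s : P.S) : len P (BN.refl P s) = 1 := by
  rcases len_refl_mul_cases P s 1 with h | h
  · rw [mul_one, len_one] at h; exact h
  · rw [len_one] at h; omega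

theorem exists_refl_of_len_one {J : Set P.S} {u : Weyl P} (hu : WJ P J u) (h : len P u = 1) :
    ∃ s ∈ J, u = BN.refl P s := by
  obtain ⟨R, hR, rfl, hl⟩ := exists_reduced_wJ hu
  rw [h] at hl
  obtain ⟨s, rfl⟩ := List.length_eq_one_iff.1 hl.symm
  exact ⟨s, hR s (List.mem_singleton_self s), by rw [wprod_cons, wprod_nil, mul_one]⟩

theorem mem_of_refl_wJ {J : Set P.S} {s : P.S} (h : WJ P J (BN.refl P s)) : s ∈ J := by
  obtain ⟨t, ht, e⟩ := exists_refl_of_len_one h (len_refl s)
  rwa [refl_injective P e]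

theorem lRed_add {J : Set P.S} {w : Weyl P} (hw : LRed P J w) {v : Weyl P} (hv : WJ P J v) :
    len P (v * w) = len P v + len P w := by
  have h := (lRed_iff_rRed_inv.1 hw).min v⁻¹ (wJ_inv hv)
  rw [← mul_inv_rev, len_inv, len_inv, len_inv] at h
  omega

theorem wJ_univ (w : Weyl P) : WJ P Set.univ w := by
  obtain ⟨L, hL⟩ := exists_word P w
  exact ⟨L, fun s _ => Set.mem_univ s, hL⟩

variable [Finite G] {wl : Finset P.S → Weyl P}

/-- Lengths are complementary with respect to the longest element. -/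
theorem len_inv_mul_longest (hwl : HasLongest P wl) (J : Finset P.S) {v : Weyl P}
    (hv : WJ P (J : Set P.S) v) : len P (v⁻¹ * wl J) + len P v = len P (wl J) := by
  classical
  haveI : Finite (Weyl P) := Quotient.finite _
  haveI : Fintype (Weyl P) := Fintype.ofFinite _
  set b := Finset.univ.sup (len P)
  have hb : ∀ u, len P u ≤ b := fun u => Finset.le_sup (Finset.mem_univ u)
  induction hd : b - len P v using Nat.strong_induction_on generalizing v with
  | _ d ih =>
    by_cases hall : ∀ s ∈ J, len P (v * BN.refl P s) < len P v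
    · rw [(hwl J v).1 ⟨hv, hall⟩, inv_mul_cancel, len_one, zero_add]
    push Not at hall
    obtain ⟨s, hs, hle⟩ := hall
    have hlt : len P (v * BN.refl P s) = len P v + 1 :=
      (len_mul_refl_cases v s).resolve_right (by omega)
    have h1 := ih (b - len P (v * BN.refl P s))
      (by have := hb (v * BN.refl P s); omega) (wJ_mul hv (wJ_refl hs)) rfl
    rw [mul_inv_rev, refl_inv, mul_assoc] at h1
    have h2 := len_refl_mul_le P s (BN.refl P s * (v⁻¹ * wl J))
    rw [← mul_assoc (BN.refl P s) (BN.refl P s), refl_sq, one_mul] at h2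
    have h3 := len_mul_le v (v⁻¹ * wl J)
    rw [mul_inv_cancel_left] at h3
    omega

end Lengths

section Orbits

variable (P)

/-- A representative of an element of the Weyl group. -/
noncomputable def rep (w : Weyl P) : G := (Quotient.out w : P.N).1

/-- The base point of a cell in the cosets of `P_J`. -/
noncomputable def base (J : Set P.S) (w : Weyl P) : G ⧸ par P J := QuotientGroup.mk (rep P w)

variable {P}

theorem mk_out_weyl (w : Weyl P) : QuotientGroup.mk (Quotient.out w : P.N) = w :=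
  Quotient.out_eq w

theorem cw_eq_cosetOf (w : Weyl P) : cw P w = cosetOf P (rep P w) := by
  conv_lhs => rw [← mk_out_weyl w, cw_mk]
  rfl

theorem cw_mul_refl_eq (w : Weyl P) (s : P.S) :
    cw P (w * BN.refl P s) = cosetOf P (rep P w * s.1) := by
  conv_lhs => rw [← mk_out_weyl w, BN.refl, ← QuotientGroup.mk_mul, cw_mk]
  rfl

theorem cw_refl_mul_eq (w : Weyl P) (s : P.S) :
    cw P (BN.refl P s * w) = cosetOf P (s.1 * rep P w) := by
  conv_lhs => rw [← mk_out_weyl w, BN.refl, ← QuotientGroup.mk_mul, cw_mk]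
  rfl

theorem rep_mem_cw (w : Weyl P) : rep P w ∈ cw P w := by
  rw [cw_eq_cosetOf]
  exact self_mem_cosetOf P _

theorem cell_rep (w : Weyl P) : cell P (QuotientGroup.mk (rep P w)) = w := by
  rw [cell_mk]
  exact cellOf_eq (rep_mem_cw w)

variable {K : Set P.S} {R : Subgroup G}

/-- `R`-transitivity on a cell gives the orbit of the base point. -/
theorem proj_mem_orbit (hcell : ∀ w, LRed P K w → ∀ x y : G ⧸ P.B, cell P x = w → cell P y = w →
      ∃ r ∈ R, r • x = y)
    {J : Set P.S} {w : Weyl P} (hw : LRed P K w) {x : G ⧸ P.B} (hx : cell P x = w) :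
    proj P J x ∈ MulAction.orbit R (base P J w) := by
  obtain ⟨r, hr, e⟩ := hcell w hw _ x (cell_rep w) hx
  refine ⟨⟨r, hr⟩, ?_⟩
  show r • base P J w = proj P J x
  rw [← e, proj_smul]
  rfl

/-- The stabiliser of the `R`-orbit of a point inside a subgroup normalising `R`. -/
def orbStab {X : Type*} [MulAction G X] (M R : Subgroup G)
    (hRn : ∀ q ∈ M, ∀ r ∈ R, q * r * q⁻¹ ∈ R) (x : X) : Subgroup G where
  carrier := {q | q ∈ M ∧ q • x ∈ MulAction.orbit R x}
  one_mem' := ⟨one_mem _, by rw [one_smul]; exact MulAction.mem_orbit_self x⟩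
  mul_mem' := by
    rintro a b ⟨ha, ⟨r, hr⟩, hr'⟩ ⟨hb, ⟨r', hr'1⟩, hb'⟩
    refine ⟨mul_mem ha hb, ⟨(a * r' * a⁻¹) * r, mul_mem (hRn a ha r' hr'1) hr⟩, ?_⟩
    change r • x = a • x at hr'
    change r' • x = b • x at hb'
    show ((a * r' * a⁻¹) * r) • x = (a * b) • x
    rw [mul_smul _ r, hr', mul_smul a b, ← hb', smul_smul, smul_smul]
    congr 1
    group
  inv_mem' := by
    rintro a ⟨ha, ⟨r, hr⟩, hr'⟩
    refine ⟨inv_mem ha, ⟨a⁻¹ * r⁻¹ * a, ?_⟩, ?_⟩
    · have := hRn a⁻¹ (inv_mem ha) r⁻¹ (inv_mem hr)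
      rwa [inv_inv] at this
    · change r • x = a • x at hr'
      show (a⁻¹ * r⁻¹ * a) • x = a⁻¹ • x
      rw [mul_smul, ← hr', smul_smul]
      simp

theorem mem_orbStab {X : Type*} [MulAction G X] {M : Subgroup G}
    {hRn : ∀ q ∈ M, ∀ r ∈ R, q * r * q⁻¹ ∈ R} {x : X} {q : G} :
    q ∈ orbStab M R hRn x ↔ q ∈ M ∧ q • x ∈ MulAction.orbit R x := Iff.rfl

variable (hRB : R ≤ P.B) (hRn : ∀ q ∈ par P K, ∀ r ∈ R, q * r * q⁻¹ ∈ R)
variable (hcell : ∀ w, LRed P K w → ∀ x y : G ⧸ P.B, cell P x = w → cell P y = w →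
      ∃ r ∈ R, r • x = y)

include hcell in
theorem borel_le_orbStab {J : Set P.S} {w : Weyl P} (hw : LRed P K w) :
    P.B ≤ orbStab (par P K) R hRn (base P J w) := fun b hb => by
  refine ⟨borel_le_par K hb, ?_⟩
  have h := proj_mem_orbit hcell hw (J := J) (x := b • QuotientGroup.mk (rep P w))
    (by rw [cell_smul hb, cell_rep])
  rwa [proj_smul] at h

include hRB hcell in
theorem simple_mem_orbStab_iff {J : Set P.S} {w : Weyl P} (hwK : LRed P K w) (hwJ : RRed P J w)
    {t : P.S} (ht : t ∈ K) :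
    t.1 ∈ orbStab (par P K) R hRn (base P J w) ↔ ∃ s ∈ J, BN.refl P t * w = w * BN.refl P s := by
  have htn : t.1 * rep P w ∈ cw P (BN.refl P t * w) :=
    mul_of_len_ge P t _ w le_rfl (hwK t ht).le _ (s_mem_cw P t) _ (rep_mem_cw w)
  constructor
  · rintro ⟨-, ⟨r, hr⟩, e⟩
    have e : (QuotientGroup.mk (r * rep P w) : G ⧸ par P J) = QuotientGroup.mk (t.1 * rep P w) := e
    rw [QuotientGroup.eq] at e
    have hu := mem_par_iff.1 e
    have hc := cw_mul_min hwJ hu (mem_cw_left P (hRB hr) (rep_mem_cw w))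
      (mem_cellOf ((r * rep P w)⁻¹ * (t.1 * rep P w)))
    rw [mul_inv_cancel_left] at hc
    have e2 := eq_of_mem P htn hc
    set u := cellOf P ((r * rep P w)⁻¹ * (t.1 * rep P w))
    have hl : len P u = 1 := by
      have h1 := lRed_add hwK (wJ_refl ht)
      rw [e2, hwJ.min u hu, len_refl] at h1
      omega
    obtain ⟨s, hs, hus⟩ := exists_refl_of_len_one hu hl
    exact ⟨s, hs, by rw [e2, hus]⟩
  · rintro ⟨s, hs, e⟩
    refine ⟨simple_mem_par ht, ?_⟩
    have hm : t.1 * rep P w ∈ cosetOf P (rep P w * s.1) := by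
      rw [← cw_mul_refl_eq, ← e]
      exact htn
    obtain ⟨b, hb, c, hc, e'⟩ := (mem_cosetOf P).1 hm
    have heq : t.1 • base P J w = proj P J (b • QuotientGroup.mk (rep P w)) := by
      rw [base, MulAction.Quotient.smul_mk, MulAction.Quotient.smul_mk, proj_mk, smul_eq_mul,
        smul_eq_mul, QuotientGroup.eq, e']
      rw [show (b * (rep P w * s.1) * c)⁻¹ * (b * rep P w) = c⁻¹ * s.1⁻¹ by group]
      exact mul_mem (inv_mem (borel_le_par J hc)) (inv_mem (simple_mem_par hs))
    rw [heq]
    exact proj_mem_orbit hcell hwK (by rw [cell_smul hb, cell_rep])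

theorem exists_double_rep [Finite G] (K J : Set P.S) (y : G ⧸ par P J) :
    ∃ w, LRed P K w ∧ RRed P J w ∧ ∃ q ∈ par P K, y = q • base P J w := by
  classical
  obtain ⟨g, rfl⟩ := QuotientGroup.mk_surjective y
  have hne : ∃ k, ∃ q ∈ par P K, ∃ w : Weyl P,
      (QuotientGroup.mk g : G ⧸ par P J) = q • base P J w ∧ len P w = k := by
    obtain ⟨b, hb, c, hc, e⟩ := (mem_cosetOf P).1
      (show g ∈ cosetOf P (rep P (cellOf P g)) by rw [← cw_eq_cosetOf]; exact mem_cellOf g)
    refine ⟨_, b, borel_le_par K hb, cellOf P g, ?_, rfl⟩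
    rw [base, MulAction.Quotient.smul_mk, smul_eq_mul, QuotientGroup.eq]
    generalize rep P (cellOf P g) = n at e ⊢
    rw [e]
    rw [show (b * n * c)⁻¹ * (b * n) = c⁻¹ by group]
    exact inv_mem (borel_le_par J hc)
  obtain ⟨q, hq, w, hy, hk⟩ := Nat.find_spec hne
  have hmin : ∀ q' ∈ par P K, ∀ w', (QuotientGroup.mk g : G ⧸ par P J) = q' • base P J w' →
      len P w ≤ len P w' := fun q' hq' w' h => hk ▸ Nat.find_min' hne ⟨q', hq', w', h, rfl⟩
  refine ⟨w, fun s hs => ?_, fun s hs => ?_, q, hq, hy⟩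
  · rcases len_refl_mul_cases P s w with h | h
    · omega
    exfalso
    obtain ⟨b, hb, c, hc, e⟩ := (mem_cosetOf P).1
      (show s.1 * rep P w ∈ cosetOf P (rep P (BN.refl P s * w)) by
        rw [← cw_eq_cosetOf, cw_refl_mul_eq]; exact self_mem_cosetOf P _)
    have := hmin (q * s.1⁻¹ * b)
      (mul_mem (mul_mem hq (inv_mem (simple_mem_par hs))) (borel_le_par K hb))
      (BN.refl P s * w) (by
        rw [hy, base, base, MulAction.Quotient.smul_mk, MulAction.Quotient.smul_mk, smul_eq_mul,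
          smul_eq_mul, QuotientGroup.eq,
          show rep P w = s.1⁻¹ * (b * rep P (BN.refl P s * w) * c) by rw [← e, inv_mul_cancel_left]]
        rw [show (q * (s.1⁻¹ * (b * rep P (BN.refl P s * w) * c)))⁻¹ *
          (q * s.1⁻¹ * b * rep P (BN.refl P s * w)) = c⁻¹ by group]
        exact inv_mem (borel_le_par J hc))
    omega
  · rcases len_mul_refl_cases w s with h | h
    · omega
    exfalso
    obtain ⟨b, hb, c, hc, e⟩ := (mem_cosetOf P).1
      (show rep P w * s.1 ∈ cosetOf P (rep P (w * BN.refl P s)) by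
        rw [← cw_eq_cosetOf, cw_mul_refl_eq]; exact self_mem_cosetOf P _)
    have := hmin (q * b) (mul_mem hq (borel_le_par K hb)) (w * BN.refl P s) (by
      rw [hy, base, base, MulAction.Quotient.smul_mk, MulAction.Quotient.smul_mk, smul_eq_mul,
        smul_eq_mul, QuotientGroup.eq]
      rw [show (q * rep P w)⁻¹ * (q * b * rep P (w * BN.refl P s)) =
        s.1 * (rep P w * s.1)⁻¹ * (b * rep P (w * BN.refl P s)) by group, e]
      rw [show s.1 * (b * rep P (w * BN.refl P s) * c)⁻¹ * (b * rep P (w * BN.refl P s)) =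
        s.1 * c⁻¹ by group]
      exact mul_mem (simple_mem_par hs) (inv_mem (borel_le_par J hc)))
    omega

include hRB hRn hcell in
/-- The orbits of `R` fixed by an element in no smaller parabolic subgroup. -/
theorem card_fixedOrbits [Finite G] {g : G} (hgK : g ∈ par P K)
    (hmin : ∀ K' : Set P.S, K' ⊂ K → ∀ q : G, q⁻¹ * g * q ∉ par P K') (J : Set P.S) :
    Nat.card (fixedOrbits (X := G ⧸ par P J) R g) =
      Nat.card {w : Weyl P // LRed P K w ∧ RRed P J w ∧
        ∀ t ∈ K, ∃ s ∈ J, BN.refl P t * w = w * BN.refl P s} := by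
  classical
  have hfull : ∀ w, LRed P K w → RRed P J w →
      (∀ t ∈ K, ∃ s ∈ J, BN.refl P t * w = w * BN.refl P s) →
      ∀ q ∈ par P K, q ∈ orbStab (par P K) R hRn (base P J w) := by
    intro w h1 h2 h3 q hq
    refine (sup_le (borel_le_orbStab hRn hcell h1) ((Subgroup.closure_le _).2 ?_) :
      par P K ≤ _) hq
    rintro _ ⟨t, ht, rfl⟩
    exact (simple_mem_orbStab_iff hRB hRn hcell h1 h2 ht).2 (h3 t ht)
  symm
  refine Nat.card_congr (Equiv.ofBijective (fun w => ⟨Quotient.mk'' (base P J w.1),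
    base P J w.1, rfl, (mem_orbStab.1 (hfull w.1 w.2.1 w.2.2.1 w.2.2.2 g hgK)).2⟩) ⟨?_, ?_⟩)
  · intro w w' h
    have h' := congrArg Subtype.val h
    simp only [Quotient.eq'', MulAction.orbitRel_apply] at h'
    obtain ⟨⟨r, hr⟩, e⟩ := h'
    change r • base P J w'.1 = base P J w.1 at e
    have hx : RRed P J (cell P (r • QuotientGroup.mk (rep P w'.1))) := by
      rw [cell_smul (hRB hr), cell_rep]; exact w'.2.2.1
    have hy : RRed P J (cell P (QuotientGroup.mk (rep P w.1))) := by rw [cell_rep]; exact w.2.2.1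
    have := congrArg (cell P) (rRed_proj_inj hx hy (by rw [proj_smul]; exact e))
    rw [cell_smul (hRB hr), cell_rep, cell_rep] at this
    exact Subtype.ext this.symm
  · rintro ⟨o, y, hyo, hy⟩
    obtain ⟨w, hwK, hwJ, q, hq, rfl⟩ := exists_double_rep K J y
    set Q := orbStab (par P K) R hRn (base P J w)
    obtain ⟨⟨r, hr⟩, e⟩ := hy
    change r • q • base P J w = g • q • base P J w at e
    have hgQ : q⁻¹ * g * q ∈ Q := by
      refine ⟨mul_mem (mul_mem (inv_mem hq) hgK) hq, ⟨q⁻¹ * r * q, ?_⟩, ?_⟩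
      · have := hRn q⁻¹ (inv_mem hq) r hr
        rwa [inv_inv] at this
      · show (q⁻¹ * r * q) • base P J w = (q⁻¹ * g * q) • base P J w
        simp only [mul_smul]
        rw [e]
    have hall : ∀ t ∈ K, ∃ s ∈ J, BN.refl P t * w = w * BN.refl P s := by
      intro t ht
      rw [← simple_mem_orbStab_iff hRB hRn hcell hwK hwJ ht]
      by_contra hn
      have hsub : ({t' ∈ K | t'.1 ∈ Q} : Set P.S) ⊂ K :=
        ⟨fun t' h => h.1, fun h => hn (h ht).2⟩
      refine hmin _ hsub q ?_
      have hB : P.B ≤ Q := borel_le_orbStab hRn hcell hwK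
      have hle : Q ≤ par P {t' ∈ K | t'.1 ∈ Q} := by
        refine le_of_eq_of_le (eq_parabolic P hB) ?_
        rw [par]
        refine parabolic_mono P ?_
        rintro x ⟨hxS, hxQ⟩
        refine ⟨⟨x, hxS⟩, ⟨?_, hxQ⟩, rfl⟩
        obtain ⟨t', ht', e'⟩ := mem_of_mem_parabolic P (Subtype.coe_image_subset P.S K) hxS hxQ.1
        rwa [← show t' = ⟨x, hxS⟩ from Subtype.ext e']
      exact hle hgQ
    refine ⟨⟨w, hwK, hwJ, hall⟩, Subtype.ext ?_⟩
    refine Eq.trans ?_ hyo
    show Quotient.mk'' (base P J w) = _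
    rw [Quotient.eq'', MulAction.orbitRel_apply]
    exact MulAction.mem_orbit_symm.2 (mem_orbStab.1 (hfull w hwK hwJ hall q hq)).2

end Orbits

section Count

open scoped Classical

variable [Finite G] [Fintype P.S] {wl : Finset P.S → Weyl P}

theorem sum_between {ι : Type*} [Fintype ι] (A B : Finset ι) (hAB : A ⊆ B) :
    ∑ J ∈ (Finset.univ : Finset ι).powerset.filter (fun J => A ⊆ J ∧ J ⊆ B), (-1 : ℤ) ^ J.card =
      if B = A then (-1) ^ A.card else 0 := by
  have h : ∑ J ∈ (Finset.univ : Finset ι).powerset.filter (fun J => A ⊆ J ∧ J ⊆ B), (-1 : ℤ) ^ J.card =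
      ∑ J ∈ (B \ A).powerset, (-1 : ℤ) ^ A.card * (-1) ^ J.card := by
    refine Finset.sum_nbij' (fun J => J \ A) (fun J => A ∪ J) ?_ ?_ ?_ ?_ ?_
    · intro J hJ
      simp only [Finset.mem_coe, Finset.mem_filter] at hJ
      simp only [Finset.mem_coe, Finset.mem_powerset]
      exact Finset.sdiff_subset_sdiff hJ.2.2 (Finset.Subset.refl A)
    · intro J hJ
      simp only [Finset.mem_coe, Finset.mem_powerset] at hJ
      simp only [Finset.mem_coe, Finset.mem_filter, Finset.mem_powerset]
      exact ⟨Finset.subset_univ _, Finset.subset_union_left,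
        Finset.union_subset hAB (hJ.trans Finset.sdiff_subset)⟩
    · intro J hJ
      simp only [Finset.mem_coe, Finset.mem_filter] at hJ
      exact Finset.union_sdiff_of_subset hJ.2.1
    · intro J hJ
      simp only [Finset.mem_coe, Finset.mem_powerset] at hJ
      show (A ∪ J) \ A = J
      rw [Finset.union_sdiff_left]
      exact Finset.sdiff_eq_self_of_disjoint (Finset.disjoint_of_subset_left hJ Finset.sdiff_disjoint)
    · intro J hJ
      simp only [Finset.mem_filter] at hJ
      rw [← pow_add, ← Finset.card_sdiff_add_card_eq_card hJ.2.1, add_comm]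
  rw [h, ← Finset.mul_sum, Finset.sum_powerset_neg_one_pow_card]
  by_cases e : B = A
  · rw [if_pos (by rw [e, Finset.sdiff_self]), if_pos e, mul_one]
  · rw [if_neg (fun h' => e (Finset.Subset.antisymm (Finset.sdiff_eq_empty_iff_subset.1 h') hAB)),
      if_neg e, mul_zero]

/-- The alternating count of the double cosets is a sign. -/
theorem coset_sign (hwl : HasLongest P wl) (K : Finset P.S) :
    (∑ J ∈ (Finset.univ : Finset P.S).powerset, (-1 : ℤ) ^ J.card *
      (Nat.card {w : Weyl P // LRed P (K : Set P.S) w ∧ RRed P (J : Set P.S) w ∧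
        ∀ t ∈ (K : Set P.S), ∃ s ∈ (J : Set P.S), BN.refl P t * w = w * BN.refl P s} : ℤ)).natAbs
      = 1 := by
  haveI : Finite (Weyl P) := Quotient.finite _
  haveI : Fintype (Weyl P) := Fintype.ofFinite _
  let X : Finset (Weyl P) := Finset.univ.filter fun w => LRed P (K : Set P.S) w ∧
    ∀ t ∈ K, ∃ s, BN.refl P t * w = w * BN.refl P s
  let R : Weyl P → Finset P.S := fun w =>
    Finset.univ.filter fun s => ∃ t ∈ K, BN.refl P t * w = w * BN.refl P s
  let A : Weyl P → Finset P.S := fun w =>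
    Finset.univ.filter fun s => len P w < len P (w * BN.refl P s)
  have hRA : ∀ w ∈ X, R w ⊆ A w := by
    intro w hw s hs
    obtain ⟨t, ht, e⟩ := (Finset.mem_filter.1 hs).2
    refine Finset.mem_filter.2 ⟨Finset.mem_univ _, ?_⟩
    rw [← e]
    exact (Finset.mem_filter.1 hw).2.1 t ht
  have hcount : ∀ J : Finset P.S, Nat.card {w : Weyl P // LRed P (K : Set P.S) w ∧
      RRed P (J : Set P.S) w ∧
        ∀ t ∈ (K : Set P.S), ∃ s ∈ (J : Set P.S), BN.refl P t * w = w * BN.refl P s} =
      (X.filter fun w => R w ⊆ J ∧ J ⊆ A w).card := by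
    intro J
    rw [Nat.card_eq_fintype_card, Fintype.card_subtype]
    congr 1
    ext w
    simp only [X, R, A, Finset.mem_filter, Finset.mem_univ, true_and, Finset.subset_iff,
      Finset.mem_coe, RRed]
    constructor
    · rintro ⟨h1, h2, h3⟩
      refine ⟨⟨h1, fun t ht => ?_⟩, ?_, fun s hs => h2 s hs⟩
      · obtain ⟨s, -, e⟩ := h3 t ht
        exact ⟨s, e⟩
      · rintro s ⟨t, ht, e⟩
        obtain ⟨s', hs', e'⟩ := h3 t ht
        rw [e, mul_left_cancel_iff] at e'
        rwa [refl_injective P e']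
    · rintro ⟨⟨h1, h2⟩, h3, h4⟩
      refine ⟨h1, fun s hs => h4 s hs, fun t ht => ?_⟩
      obtain ⟨s, e⟩ := h2 t ht
      exact ⟨s, h3 ⟨t, ht, e⟩, e⟩
  simp only [hcount, Finset.card_filter, Nat.cast_sum, Finset.mul_sum]
  rw [Finset.sum_comm]
  have hinner : ∀ w ∈ X, (∑ J ∈ (Finset.univ : Finset P.S).powerset,
      (-1 : ℤ) ^ J.card * ((if R w ⊆ J ∧ J ⊆ A w then 1 else 0 : ℕ) : ℤ)) =
      if A w = R w then (-1) ^ (R w).card else 0 := by
    intro w hw
    refine Eq.trans ?_ ((sum_between (R w) (A w) (hRA w hw)).trans (by congr))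
    rw [Finset.sum_filter]
    exact Finset.sum_congr rfl fun J _ => by split_ifs <;> simp
  rw [Finset.sum_congr rfl hinner]
  -- the only surviving element
  set U : Finset P.S := Finset.univ
  set w₁ := (wl K)⁻¹ * wl U with hw₁
  have hmemU : ∀ v : Weyl P, WJ P (U : Set P.S) v := fun v => by
    rw [Finset.coe_univ]; exact wJ_univ v
  have hwlK : WJ P (K : Set P.S) (wl K) := ((hwl K _).2 rfl).1
  have hdescK : ∀ t ∈ K, len P (wl K * BN.refl P t) + 1 = len P (wl K) := fun t ht => by
    have := ((hwl K _).2 rfl).2 t ht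
    rcases len_mul_refl_cases (wl K) t with h | h <;> omega
  have hlen₁ : len P w₁ + len P (wl K) = len P (wl U) := len_inv_mul_longest hwl U (hmemU _)
  have hwX : w₁ ∈ X := by
    refine Finset.mem_filter.2 ⟨Finset.mem_univ _, fun t ht => ?_, fun t ht => ?_⟩
    · have e : BN.refl P t * w₁ = (wl K * BN.refl P t)⁻¹ * wl U := by
        rw [hw₁, mul_inv_rev, refl_inv, mul_assoc]
      have h := len_inv_mul_longest hwl U (hmemU (wl K * BN.refl P t))
      rw [← e] at h
      have := hdescK t ht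
      omega
    · set v := wl K * BN.refl P t * (wl K)⁻¹ with hv
      have hvinv : v⁻¹ = v := by rw [hv, mul_inv_rev, mul_inv_rev, inv_inv, refl_inv, ← mul_assoc]
      have h1 := len_inv_mul_longest hwl K
        (show WJ P (K : Set P.S) v from wJ_mul (wJ_mul hwlK (wJ_refl ht)) (wJ_inv hwlK))
      rw [hvinv, show v * wl K = wl K * BN.refl P t by rw [hv, inv_mul_cancel_right]] at h1
      have h2 := hdescK t ht
      have h3 := len_inv_mul_longest hwl U (hmemU v)
      rw [hvinv] at h3
      have h4 := len_inv_mul_longest hwl U (hmemU (v * wl U))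
      have e4 : (v * wl U)⁻¹ * wl U = w₁⁻¹ * BN.refl P t * w₁ := by
        rw [mul_inv_rev, hvinv, hw₁, hv, mul_inv_rev, inv_inv]
        simp only [mul_assoc]
      rw [e4] at h4
      obtain ⟨s, -, hs⟩ := exists_refl_of_len_one (J := Set.univ) (wJ_univ _)
        (show len P (w₁⁻¹ * BN.refl P t * w₁) = 1 by omega)
      exact ⟨s, by rw [← hs]; group⟩
  have hAR : A w₁ = R w₁ := by
    refine Finset.Subset.antisymm (fun s hs => ?_) (hRA _ hwX)
    have hasc : len P w₁ < len P (w₁ * BN.refl P s) := (Finset.mem_filter.1 hs).2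
    set v := wl U * BN.refl P s * (wl U)⁻¹ with hv
    have hvinv : v⁻¹ = v := by rw [hv, mul_inv_rev, mul_inv_rev, inv_inv, refl_inv, ← mul_assoc]
    have hdU := ((hwl U _).2 rfl).2 s (Finset.mem_univ s)
    have h1 := len_inv_mul_longest hwl U (hmemU v)
    rw [hvinv, show v * wl U = wl U * BN.refl P s by rw [hv, inv_mul_cancel_right]] at h1
    obtain ⟨t', -, ht'⟩ := exists_refl_of_len_one (J := Set.univ) (wJ_univ v) (by
      rcases len_mul_refl_cases (wl U) s with h | h <;> omega)
    have e : w₁ * BN.refl P s = (BN.refl P t' * wl K)⁻¹ * wl U := by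
      rw [mul_inv_rev, ← ht', hvinv, hv, hw₁]
      simp only [mul_assoc, inv_mul_cancel, mul_one]
    have h2 := len_inv_mul_longest hwl U (hmemU (BN.refl P t' * wl K))
    rw [← e] at h2
    have hlt : len P (BN.refl P t' * wl K) + 1 = len P (wl K) := by
      rcases len_mul_refl_cases w₁ s with h | h <;> rcases len_refl_mul_cases P t' (wl K) with h' | h' <;>
        omega
    obtain ⟨L, hLK, hLe, hLl⟩ := exists_reduced_wJ hwlK
    obtain ⟨i, hi, ei⟩ := BN.exchange P t' L (by rw [hLe, hLl]) (by rw [hLe]; omega)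
    have ht'K : WJ P (K : Set P.S) (BN.refl P t') := by
      have hm : WJ P (K : Set P.S) (BN.refl P t' * wl K) := by
        rw [← hLe, ei]
        exact ⟨_, fun x hx => hLK x (List.mem_of_mem_eraseIdx hx), rfl⟩
      have := wJ_mul hm (wJ_inv hwlK)
      rwa [mul_inv_cancel_right] at this
    set u := (wl K)⁻¹ * BN.refl P t' * wl K with hu
    have huK : WJ P (K : Set P.S) u := wJ_mul (wJ_mul (wJ_inv hwlK) ht'K) hwlK
    have h3 := len_inv_mul_longest hwl K
      (show WJ P (K : Set P.S) (BN.refl P t' * wl K) from wJ_mul ht'K hwlK)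
    rw [mul_inv_rev, refl_inv, ← hu] at h3
    obtain ⟨t, ht, htu⟩ := exists_refl_of_len_one huK (by omega)
    refine Finset.mem_filter.2 ⟨Finset.mem_univ _, t, ht, ?_⟩
    rw [← htu, hu, ← ht', hv, hw₁]
    simp only [mul_assoc, mul_inv_cancel_left, inv_mul_cancel, mul_one]
  have huniq : ∀ w ∈ X, A w = R w → w = w₁ := by
    intro w hw hAw
    obtain ⟨hwK, -⟩ := (Finset.mem_filter.1 hw).2
    have hadd : ∀ v, WJ P (K : Set P.S) v → len P (v * w) = len P v + len P w :=
      fun v hv => lRed_add hwK hv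
    have hz : ∀ s ∈ U, len P (wl K * w * BN.refl P s) < len P (wl K * w) := by
      intro s _
      rw [hadd _ hwlK, mul_assoc]
      by_cases hs : s ∈ A w
      · rw [hAw] at hs
        obtain ⟨t, ht, e⟩ := (Finset.mem_filter.1 hs).2
        rw [← e, ← mul_assoc, hadd _ (wJ_mul hwlK (wJ_refl ht))]
        have := hdescK t ht
        omega
      · have h1 : ¬ len P w < len P (w * BN.refl P s) := fun h =>
          hs (Finset.mem_filter.2 ⟨Finset.mem_univ _, h⟩)
        have h2 := not_len_lt.1 h1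
        have h3 := len_mul_le (wl K) (w * BN.refl P s)
        omega
    rw [hw₁, ← (hwl U (wl K * w)).1 ⟨hmemU _, hz⟩, inv_mul_cancel_left]
  rw [Finset.sum_eq_single w₁ (fun w hw hne => if_neg fun h => hne (huniq w hw h))
    (fun h => absurd hwX h), if_pos hAR]
  simp [Int.natAbs_pow]

end Count

section Main

variable [Fintype G] [Fintype P.S] {wl : Finset P.S → Weyl P} {p : ℕ} [Fact p.Prime]

theorem isClass_st (x y : G) : st P (y * x * y⁻¹) = st P x := isClassFunction_st x y

theorem st_coset_sum (R : Subgroup G) {g : G} (hg : g ∈ Subgroup.normalizer (R : Set G))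
    [DecidableEq P.S] [Fintype R] :
    ∑ u : R, st P (g * (u : G)) = (Nat.card R : ℂ) *
      ((∑ J ∈ (Finset.univ : Finset P.S).powerset, (-1 : ℤ) ^ J.card *
        (Nat.card (fixedOrbits (X := G ⧸ par P (J : Set P.S)) R g) : ℤ) : ℤ) : ℂ) := by
  classical
  simp only [st]
  rw [Finset.sum_comm, Int.cast_sum, Finset.mul_sum]
  refine Finset.sum_congr rfl fun J _ => ?_
  rw [← Finset.mul_sum]
  push_cast
  have h := sum_card_fixed (X := G ⧸ par P (J : Set P.S)) R hg
  have h' : ∑ u : R, Cfsg.fixedPointCharacter (par P (J : Set P.S)) (g * (u : G)) =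
      ((Nat.card R * Nat.card (fixedOrbits (X := G ⧸ par P (J : Set P.S)) R g) : ℕ) : ℂ) := by
    rw [← h, Nat.cast_sum]
    exact Finset.sum_congr (Finset.ext fun _ => by simp) fun u _ => rfl
  rw [h', Nat.cast_mul]
  ring

/-- **Values at semisimple elements.** -/
theorem st_semisimple (hwl : HasLongest P wl) (R : Finset P.S → Subgroup G)
    (hRB : ∀ K, R K ≤ P.B) (hRp : ∀ K, IsPGroup p (R K))
    (hRn : ∀ K : Finset P.S, ∀ q ∈ par P (K : Set P.S), ∀ r ∈ R K, q * r * q⁻¹ ∈ R K)
    (hcell : ∀ (K : Finset P.S) w, LRed P (K : Set P.S) w → ∀ x y : G ⧸ P.B,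
      cell P x = w → cell P y = w → ∃ r ∈ R K, r • x = y)
    (hvan : ∀ g : G, p ∣ orderOf g → st P g = 0) {g : G} (hg : ¬ p ∣ orderOf g) :
    st P g = ((p ^ (Nat.card (Subgroup.centralizer ({g} : Set G))).factorization p : ℕ) : ℂ) ∨
      st P g = -((p ^ (Nat.card (Subgroup.centralizer ({g} : Set G))).factorization p : ℕ) : ℂ) := by
  classical
  set C := Subgroup.centralizer ({g} : Set G) with hC
  set S : Sylow p C := Classical.choice inferInstance
  have hScard := S.card_eq_multiplicity
  -- divisibility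
  set S' : Subgroup G := (S : Subgroup C).map C.subtype with hS'
  have hS'card : Nat.card S' = p ^ (Nat.card C).factorization p := by
    rw [hS', ← Nat.card_congr ((S : Subgroup C).equivMapOfInjective _ C.subtype_injective).toEquiv]
    exact hScard
  have hcom : ∀ u ∈ S', Commute g u := by
    rintro _ ⟨u, -, rfl⟩
    exact (Subgroup.mem_centralizer_singleton_iff.1 u.2).symm
  have hnorm : g ∈ Subgroup.normalizer (S' : Set G) := Subgroup.mem_normalizer_iff.2 fun u => by
    constructor
    · intro hu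
      rw [(hcom u hu).eq, mul_inv_cancel_right]
      exact hu
    · intro hu
      have := hcom _ hu
      have e : g * u * g⁻¹ = u := by
        have h2 : g * (g * u * g⁻¹) * g⁻¹ = g * u * g⁻¹ := by rw [this.eq, mul_inv_cancel_right]
        have h3 : g * u * g⁻¹ = g * u * g⁻¹ := rfl
        exact mul_left_cancel (mul_right_cancel h2)
      rwa [e] at hu
  obtain ⟨z, hz⟩ : ∃ z : ℤ, st P g = (Nat.card S' : ℂ) * (z : ℂ) := by
    refine ⟨_, (?_ : _ = _).trans (st_coset_sum (P := P) S' hnorm)⟩
    rw [Finset.sum_eq_single (1 : S') (fun u _ hu => ?_) (by simp)]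
    · rw [Subgroup.coe_one, mul_one]
    · refine hvan _ ?_
      obtain ⟨k, hk⟩ := IsPGroup.iff_orderOf.1 (S.2.map C.subtype) u
      rw [← Subgroup.orderOf_coe] at hk
      have hk0 : k ≠ 0 := by
        rintro rfl
        exact hu (Subtype.ext (orderOf_eq_one_iff.1 hk))
      have hp := (Fact.out : p.Prime)
      have hco : (orderOf g).Coprime (orderOf (u : G)) := by
        rw [hk]
        exact (Nat.Coprime.symm ((hp.coprime_iff_not_dvd).2 hg)).pow_right k
      rw [(hcom u u.2).orderOf_mul_eq_mul_orderOf_of_coprime hco, hk]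
      exact dvd_mul_of_dvd_right (dvd_pow_self p hk0) _
  -- a minimal parabolic
  have hne : ∃ k, ∃ K : Finset P.S, ∃ q : G, q⁻¹ * g * q ∈ par P (K : Set P.S) ∧ K.card = k :=
    ⟨_, Finset.univ, 1, by rw [Finset.coe_univ, par_univ]; trivial, rfl⟩
  obtain ⟨K, q, hgK, hk⟩ := Nat.find_spec hne
  set g' := q⁻¹ * g * q with hg'
  have hminK : ∀ K' : Set P.S, K' ⊂ (K : Set P.S) → ∀ r : G, r⁻¹ * g' * r ∉ par P K' := by
    intro K' hK' r hr
    have hfin := Set.toFinite K'
    have hlt : hfin.toFinset.card < K.card := Finset.card_lt_card (by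
      rw [← Finset.coe_ssubset, Set.Finite.coe_toFinset]; exact hK')
    have := Nat.find_min' hne ⟨hfin.toFinset, q * r, by
      rw [Set.Finite.coe_toFinset]
      convert hr using 1
      rw [hg']; group, rfl⟩
    omega
  have hst : st P g' = st P g := by
    have := isClass_st (P := P) g q⁻¹
    rwa [inv_inv] at this
  have hreg : ¬ p ∣ orderOf g' := by
    rwa [hg', show q⁻¹ * g * q = MulAut.conj q⁻¹ g by simp, MulEquiv.orderOf_eq]
  have hnK : g' ∈ Subgroup.normalizer (R K : Set G) := Subgroup.mem_normalizer_iff.2 fun u =>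
    ⟨fun hu => hRn K g' hgK u hu, fun hu => by
      have := hRn K g'⁻¹ (inv_mem hgK) _ hu
      rwa [show g'⁻¹ * (g' * u * g'⁻¹) * g'⁻¹⁻¹ = u by group] at this⟩
  set c := Nat.card {v : R K // (v : G) * g' = g' * v}
  have hval := sum_coset (hRp K) hreg hnK (f := st P) isClass_st hvan
  rw [st_coset_sum (R K) hnK] at hval
  have hsign := coset_sign hwl K
  simp only [card_fixedOrbits (hRB K) (hRn K) (hcell K) hgK hminK] at hval
  set ε := ∑ J ∈ (Finset.univ : Finset P.S).powerset, (-1 : ℤ) ^ J.card *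
      (Nat.card {w : Weyl P // LRed P (K : Set P.S) w ∧ RRed P (J : Set P.S) w ∧
        ∀ t ∈ (K : Set P.S), ∃ s ∈ (J : Set P.S), BN.refl P t * w = w * BN.refl P s} : ℤ)
  have hR0 : (Nat.card (R K) : ℂ) ≠ 0 := Nat.cast_ne_zero.2 Nat.card_pos.ne'
  have heq : st P g = (c : ℂ) * (ε : ℂ) := by
    rw [← hst]
    refine mul_left_cancel₀ hR0 ?_
    rw [← hval]
    ring
  -- the count divides the `p`-part of the centralizer
  let C' : Subgroup (R K) := (Subgroup.centralizer ({g'} : Set G)).subgroupOf (R K)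
  have hcC : c = Nat.card C' := Nat.card_congr (Equiv.subtypeEquivRight fun v => by
    simp [C', Subgroup.mem_subgroupOf, Subgroup.mem_centralizer_singleton_iff])
  obtain ⟨i, hi⟩ := IsPGroup.iff_card.1 ((hRp K).to_subgroup C')
  have hdiv : c ∣ p ^ (Nat.card C).factorization p := by
    have h1 : c ∣ Nat.card C := by
      rw [hcC]
      refine Subgroup.card_dvd_of_injective
        (f := (((MulAut.conj q).toMonoidHom.comp ((R K).subtype.comp C'.subtype)).codRestrict C
          fun v => ?_)) fun a b h => ?_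
      · have hv : (v.1 : G) * g' = g' * v.1 :=
          Subgroup.mem_centralizer_singleton_iff.1 (Subgroup.mem_subgroupOf.1 v.2)
        rw [hC, Subgroup.mem_centralizer_singleton_iff]
        show q * (v.1 : G) * q⁻¹ * g = g * (q * (v.1 : G) * q⁻¹)
        calc q * (v.1 : G) * q⁻¹ * g = q * ((v.1 : G) * g') * q⁻¹ := by rw [hg']; group
          _ = _ := by rw [hv, hg']; group
      · exact Subtype.ext (Subtype.ext (mul_left_cancel (mul_right_cancel (congrArg Subtype.val h))))
    rw [hcC, hi] at h1 ⊢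
    exact pow_dvd_pow p (((Fact.out : p.Prime).pow_dvd_iff_le_factorization Nat.card_pos.ne').1 h1)
  have hdiv' : p ^ (Nat.card C).factorization p ∣ c := by
    have h1 : ((c : ℤ) * ε : ℤ) = (Nat.card S' : ℤ) * z := by
      have h2 : ((c : ℤ) : ℂ) * (ε : ℂ) = ((Nat.card S' : ℤ) : ℂ) * (z : ℂ) := by
        push_cast; rw [← heq, hz]
      exact_mod_cast h2
    have h3 := congrArg Int.natAbs h1
    rw [Int.natAbs_mul, Int.natAbs_mul, hsign, mul_one, Int.natAbs_natCast, Int.natAbs_natCast,
      hS'card] at h3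
    exact h3 ▸ dvd_mul_right _ _
  rw [heq, Nat.dvd_antisymm hdiv hdiv']
  rcases Int.natAbs_eq ε with h | h <;> rw [hsign] at h <;> rw [h]
  · exact Or.inl (by simp)
  · exact Or.inr (by simp)

end Main

end CfsgLib.StCh
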