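import Cfsg.Agent.StCh.Chev

/-!
# The kernel of the action on the longest cell of a parabolic subgroup
-/

set_option autoImplicit false

namespace CfsgLib.Chev

open Cfsg.Lie Matrix CfsgLib.BN CfsgLib.StCh
open scoped MatrixGroups

attribute [local instance] torus_normal

namespace Tab

variable {D : ChevalleyDatum}

namespace Good

variable {T : Tab D} (G : T.Good) {F : Type*} [Field F]
include G

/-- The positive roots outside the root subsystem of `J`. -/
def outSet (F : Type*) [Field F] (J : Finset (G.bnPair F).S) : Set ℕ :=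
  {s | IsPos D s ∧ G.IsOut F J s}

/-- The unipotent radical, inside the group. -/
noncomputable def radG (F : Type*) [Field F] (J : Finset (G.bnPair F).S) : Subgroup (D.group F) :=
  (G.US F (G.outSet F J)).subgroupOf (D.group F)

/-- The indices of the reflections in `J`. -/
noncomputable def idxList (F : Type*) [Field F] (J : Finset (G.bnPair F).S) : List ℕ := by
  classical
  exact ((Finset.univ.filter fun i => G.sref F i ∈ J).image Fin.val).toList

theorem mem_idxList {J : Finset (G.bnPair F).S} {i : Fin D.rank} :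
    i.val ∈ G.idxList F J ↔ G.sref F i ∈ J := by
  classical
  simp [idxList, ← Fin.ext_iff]

/-- The height averaged over `W_J`: it vanishes exactly on the root subsystem of `J`. -/
noncomputable def avg (F : Type*) [Field F] (J : Finset (G.bnPair F).S) (s : Fin D.nroots) : ℤ := by
  classical
  exact ∑ σ ∈ Finset.univ.filter (fun σ => σ ∈ G.full.WJ (G.idxList F J)), T.ht (σ s)

theorem avg_refl {J : Finset (G.bnPair F).S} {i : Fin D.rank} (hi : G.sref F i ∈ J)
    (s : Fin D.nroots) : G.avg F J (G.full.refl i s) = G.avg F J s := by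
  classical
  have hm : G.full.refl i ∈ G.full.WJ (G.idxList F J) := G.refl_mem (G.mem_idxList.mpr hi)
  refine Finset.sum_equiv (Equiv.mulRight (G.full.refl i)) (fun σ => ?_) (fun σ _ => rfl)
  simp [Subgroup.mul_mem_cancel_right _ hm]

theorem avg_pos {J : Finset (G.bnPair F).S} {s : Fin D.nroots} (hs : IsPos D s.val)
    (ho : G.IsOut F J s.val) : 0 < G.avg F J s := by
  classical
  refine Finset.sum_pos (fun σ hσ => ?_) ⟨1, Finset.mem_filter.mpr ⟨Finset.mem_univ _, one_mem _⟩⟩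
  obtain ⟨L, hL, rfl⟩ := G.exists_word_WJ (Finset.mem_filter.mp hσ).2
  obtain ⟨j, hj, hne⟩ := ho
  have hL' : ∀ i ∈ L, G.sref F i ∈ J := fun i hi => G.mem_idxList.mp (hL i hi)
  refine (G.pos_iff_ht (Fin.isLt _)).mp (G.pos_of_cor_pos (Fin.isLt _) j.isLt ?_)
  rw [G.cor_pw_out hL' s hj]
  exact lt_of_le_of_ne ((G.pos_iff_cor s.isLt).mp hs j) (Ne.symm hne)

theorem cor_negF (x : Fin D.nroots) (j : Fin D.rank) : T.cor (negF x) j = - T.cor x j :=
  ((G.full.cert.root_spec x.isLt).2.2.2.1 j j.isLt).2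

theorem avg_eq_zero {J : Finset (G.bnPair F).S} : ∀ (n : ℕ) (s : Fin D.nroots),
    IsPos D s.val → (T.ht s).toNat = n → ¬ G.IsOut F J s.val → G.avg F J s = 0 := by
  classical
  intro n
  induction n using Nat.strong_induction_on with
  | _ n ih =>
    intro s hs hn ho
    simp only [IsOut, not_exists, not_and, not_not] at ho
    obtain ⟨-, -, -, -, hsum⟩ := G.full.cert.root_spec s.isLt
    obtain ⟨i, hi, hcart⟩ : ∃ i : Fin D.rank, G.sref F i ∈ J ∧ 0 < T.cart i s := by
      by_contra hc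
      push Not at hc
      have : ((List.range D.rank).map fun i => T.cor s i * T.cart i s).sum ≤ 0 := by
        have key : ∀ l : List ℤ, (∀ x ∈ l, x ≤ 0) → l.sum ≤ 0 := fun l => by
          induction l with
          | nil => simp
          | cons a l ihl =>
            intro h
            rw [List.sum_cons]
            linarith [h a (List.mem_cons_self ..), ihl fun x hx => h x (List.mem_cons_of_mem _ hx)]
        refine key _ fun x hx => ?_
        obtain ⟨k, hk, rfl⟩ := List.mem_map.mp hx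
        rw [List.mem_range] at hk
        by_cases hkJ : G.sref F ⟨k, hk⟩ ∈ J
        · exact mul_nonpos_of_nonneg_of_nonpos ((G.pos_iff_cor s.isLt).mp hs ⟨k, hk⟩) (hc _ hkJ)
        · rw [ho _ hkJ, zero_mul]
      omega
    by_cases he : s = G.full.simp' i
    · subst he
      have h1 := G.avg_refl hi (G.full.simp' i)
      rw [G.refl_simp] at h1
      have h2 : G.avg F J (negF (G.full.simp' i)) = - G.avg F J (G.full.simp' i) := by
        simp only [avg, ← Finset.sum_neg_distrib]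
        refine Finset.sum_congr rfl fun σ hσ => ?_
        rw [G.negF_WJ (Finset.mem_filter.mp hσ).2]
        exact (G.full.cert.root_spec (Fin.isLt _)).2.2.1
      omega
    · rw [← G.avg_refl hi s]
      have hpos := (G.refl_pos i hs he).1
      obtain ⟨-, -, -, hht, -⟩ := G.full.reflT_spec i.isLt s.isLt
      have hlt : T.ht (G.full.refl i s) < T.ht s := by
        change T.ht (T.reflT i s) < _
        rw [hht]
        omega
      have h0 := (G.pos_iff_ht (Fin.isLt _)).mp hpos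
      refine ih _ (by omega) _ hpos rfl ?_
      rw [← G.pw_singleton, G.isOut_pw (by simpa using hi)]
      simp only [IsOut, not_exists, not_and, not_not]
      exact ho

theorem avg_comm (J : Finset (G.bnPair F).S) {r s : ℕ} (hr : r < D.nroots) (hs : s < D.nroots)
    {c : ℕ × ℤ × ℕ × ℕ} (hc : c ∈ T.commT r s) (hcl : c.1 < D.nroots) :
    ∃ i j : ℤ, 1 ≤ i ∧ 1 ≤ j ∧ G.avg F J ⟨c.1, hcl⟩ =
      i * G.avg F J ⟨r, hr⟩ + j * G.avg F J ⟨s, hs⟩ := by
  classical
  obtain ⟨i, j, hi, hj, hw⟩ := G.comm_add hr hs hc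
  refine ⟨i, j, hi, hj, ?_⟩
  simp only [avg, Finset.mul_sum, ← Finset.sum_add_distrib]
  refine Finset.sum_congr rfl fun σ hσ => ?_
  obtain ⟨L, -, rfl⟩ := G.exists_word_WJ (Finset.mem_filter.mp hσ).2
  obtain ⟨a, b, hab⟩ := G.ht_pw L
  have eg := hw T.gr G.full.cert.isAdd_gr
  rw [T.gr_root hcl, T.gr_root hr, T.gr_root hs] at eg
  have ew : ∀ k : Fin D.rank, T.cart k c.1 = i * T.cart k r + j * T.cart k s := fun k => by
    have := hw _ (G.full.cert.isAdd_wt k.isLt)
    rwa [T.wt_root hcl, T.wt_root hr, T.wt_root hs] at this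
  rw [hab, hab, hab]
  simp only [eg, ew, mul_add, Finset.mul_sum, Finset.sum_add_distrib, ← add_assoc]
  ring_nf

theorem avg_nonneg {J : Finset (G.bnPair F).S} {s : Fin D.nroots} (hs : IsPos D s.val) :
    0 ≤ G.avg F J s := by
  by_cases ho : G.IsOut F J s.val
  · exact (G.avg_pos hs ho).le
  · exact (G.avg_eq_zero _ s hs rfl ho).ge

theorem closed_outSet (J : Finset (G.bnPair F).S) {r s : ℕ} (hr : IsPos D r) (hs : IsPos D s)
    (h : r ∈ G.outSet F J ∨ s ∈ G.outSet F J) {c : ℕ × ℤ × ℕ × ℕ} (hc : c ∈ T.commT r s) :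
    c.1 ∈ G.outSet F J := by
  have hk := (G.comm_keys hr hs hc).1
  refine ⟨hk, ?_⟩
  obtain ⟨i, j, hi, hj, e⟩ := G.avg_comm J hr.1 hs.1 hc hk.1
  have hr0 := G.avg_nonneg (J := J) (s := ⟨r, hr.1⟩) hr
  have hs0 := G.avg_nonneg (J := J) (s := ⟨s, hs.1⟩) hs
  by_contra hno
  rw [G.avg_eq_zero _ ⟨c.1, hk.1⟩ hk rfl hno] at e
  rcases h with h | h
  · have := G.avg_pos (s := ⟨r, hr.1⟩) hr h.2
    nlinarith
  · have := G.avg_pos (s := ⟨s, hs.1⟩) hs h.2
    nlinarith

theorem x_conj_out (J : Finset (G.bnPair F).S) {r : ℕ} (hr : IsPos D r) (t : F)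
    {u : GL D.Idx F} (hu : u ∈ G.US F (G.outSet F J)) :
    G.full.x r t * u * (G.full.x r t)⁻¹ ∈ G.US F (G.outSet F J) := by
  refine G.conj_US _ (fun s hs v => ?_) hu
  have h := G.conj_pos (F := F) hr hs.1 t v (S := G.outSet F J)
    (fun _ c hc => G.closed_outSet J hr hs.1 (Or.inr hs) hc)
  have := mul_mem (G.x_mem_US hs v) h
  rwa [mul_inv_cancel_left] at this

theorem borel_conj_out (J : Finset (G.bnPair F).S) {b : GL D.Idx F} (hb : b ∈ D.borelSubgroup F)
    {u : GL D.Idx F} (hu : u ∈ G.US F (G.outSet F J)) : b * u * b⁻¹ ∈ G.US F (G.outSet F J) := by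
  obtain ⟨v, hv, c, rfl⟩ := G.mem_borel.mp hb
  rw [show v * T.hT F c * u * (v * T.hT F c)⁻¹ = v * (T.hT F c * u * (T.hT F c)⁻¹) * v⁻¹ by group]
  have h1 := G.hT_conj_US (G.outSet F J) (fun s hs => hs.1.1) c hu
  revert h1
  generalize T.hT F c * u * (T.hT F c)⁻¹ = w
  intro hw
  rw [G.posUnipotent_eq] at hv
  clear hb
  induction hv using Subgroup.closure_induction'' generalizing w with
  | mem v hv => obtain ⟨r, hr, t, rfl⟩ := hv; exact G.x_conj_out J hr t hw
  | inv_mem v hv =>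
    obtain ⟨r, hr, t, rfl⟩ := hv
    rw [G.full.x_inv]
    exact G.x_conj_out J hr _ hw
  | one => simpa using hw
  | mul a c _ _ ha hc =>
    rw [show a * c * w * (a * c)⁻¹ = a * (c * w * c⁻¹) * a⁻¹ by group]
    exact ha _ (hc w hw)

theorem ns_conj_out {J : Finset (G.bnPair F).S} {i : Fin D.rank} (hi : G.sref F i ∈ J)
    {u : GL D.Idx F} (hu : u ∈ G.US F (G.outSet F J)) :
    G.full.ns F i * u * (G.full.ns F i)⁻¹ ∈ G.US F (G.outSet F J) := by
  refine G.conj_x_act (G.rootAct_ns i) (fun s hs => ⟨hs.1.1, ?_⟩) hu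
  have hne : (⟨s, hs.1.1⟩ : Fin D.nroots) ≠ G.full.simp' i := by
    intro e
    obtain ⟨j, hj, hcor⟩ := hs.2
    have h2 : T.cor s j = T.cor (G.full.simp' i) j := congrArg (fun x : Fin D.nroots => T.cor x j) e
    rw [G.cor_simple, if_neg (fun h : j = i => hj (h ▸ hi))] at h2
    exact hcor h2
  refine ⟨(G.refl_pos i hs.1 hne).1, ?_⟩
  have := (G.isOut_pw (L := [i]) (J := J) (by simpa using hi) ⟨s, hs.1.1⟩).mpr hs.2
  rwa [G.pw_singleton] at this

/-- The radical is normal in the parabolic subgroup. -/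
theorem radG_conj [Finite (D.group F)] (J : Finset (G.bnPair F).S) {q : D.group F}
    (hq : q ∈ par (G.bnPair F) (J : Set (G.bnPair F).S)) {r : D.group F} (hr : r ∈ G.radG F J) :
    q * r * q⁻¹ ∈ G.radG F J := by
  have hle : par (G.bnPair F) (J : Set (G.bnPair F).S) ≤ Subgroup.normalizer (G.radG F J : Set (D.group F)) := by
    refine sup_le (fun b hb => ?_) ((Subgroup.closure_le _).mpr ?_)
    · exact Subgroup.mem_normalizer_fintype fun n hn => G.borel_conj_out J hb hn
    · rintro _ ⟨s, hs, rfl⟩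
      obtain ⟨i, rfl⟩ := G.exists_index s
      exact Subgroup.mem_normalizer_fintype fun n hn => G.ns_conj_out hs hn
  exact (Subgroup.mem_normalizer_iff.mp (hle hq) r).mp hr

theorem closed_out (J : Finset (G.bnPair F).S) : T.Closed (G.outSet F J) :=
  ⟨fun _ h => h.1, fun _ hr _ hs _ hc => G.closed_outSet J hr.1 hs.1 (Or.inl hr) hc⟩

theorem radG_le (J : Finset (G.bnPair F).S) :
    G.radG F J ≤ (D.posUnipotent F).subgroupOf (D.group F) := fun u hu => by
  rw [Subgroup.mem_subgroupOf, G.posUnipotent_eq]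
  exact G.US_mono (fun _ h => h.1) hu

theorem wlong_inv [Finite (D.group F)] (J : Finset (G.bnPair F).S) :
    (G.wlong F J)⁻¹ = G.wlong F J :=
  G.eq_wlong J (wJ_inv (G.exists_maxJ J).choose_spec.1) fun s hs => by
    refine (len_lt_or _ s).resolve_left (not_lt.mpr ?_)
    rw [len_inv]
    exact (G.exists_maxJ J).choose_spec.2 _
      (wJ_mul (wJ_inv (G.exists_maxJ J).choose_spec.1) (wJ_refl hs))

/-- A representative of the longest cell sending exactly the radical into `B`. -/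
theorem exists_rep_cell [Finite (D.group F)] (J : Finset (G.bnPair F).S) :
    ∃ n : D.group F, (n : GL D.Idx F) ∈ D.monomialSubgroup F ∧
      cellOf (G.bnPair F) n = G.wlong F J ∧
      ∀ u : GL D.Idx F, u ∈ D.posUnipotent F →
        ((n : GL D.Idx F)⁻¹ * u * n ∈ D.borelSubgroup F ↔ u ∈ G.US F (G.outSet F J)) := by
  obtain ⟨L, hLe, hL⟩ := G.exists_wrd_wJ (G.exists_maxJ J).choose_spec.1
  refine ⟨(G.nwG F L)⁻¹, inv_mem (G.nw_mem_monomial L), ?_, fun u hu => ?_⟩
  · rw [cellOf_inv, G.cellOf_nwG, hLe]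
    exact G.wlong_inv J
  simp only [Subgroup.coe_inv, inv_inv]
  change G.full.nw F L * u * (G.full.nw F L)⁻¹ ∈ D.borelSubgroup F ↔ _
  have hpos : ∀ s : Fin D.nroots, IsPos D s.val →
      (IsPos D (G.full.pw L s).val ↔ G.IsOut F J s.val) := fun s hs =>
    G.pos_pw_iff hL (fun i hi => G.lt_iff_neg.mp (by rw [hLe]; exact G.wlong_descent J hi)) hs
  have hkeep : keepSet (G.full.pw L) = G.outSet F J := by
    ext s
    exact ⟨fun ⟨h, h1, h2⟩ => ⟨h1, (hpos ⟨s, h⟩ h1).mp h2⟩,
      fun ⟨h1, h2⟩ => ⟨h1.1, h1, (hpos ⟨s, h1.1⟩ h1).mpr h2⟩⟩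
  have hact := G.rootAct_nw (F := F) L
  rw [G.posUnipotent_eq] at hu
  obtain ⟨a, ha, f, hf, rfl⟩ := G.US_split (G.closed_keep L) (G.closed_flip L) G.closed_pos
    (pos_eq_keep_union_flip _) hu
  rw [hkeep] at ha
  have ha' : G.full.nw F L * a * (G.full.nw F L)⁻¹ ∈ D.borelSubgroup F := by
    refine pos_le_borel G ?_
    rw [G.posUnipotent_eq]
    exact G.conj_x_act hact (fun s hs => ⟨hs.1.1, (hpos ⟨s, hs.1.1⟩ hs.1).mpr hs.2⟩) ha
  have hf' := G.conj_flip_mem_neg hact hf
  constructor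
  · intro h
    have e : G.full.nw F L * f * (G.full.nw F L)⁻¹ = (G.full.nw F L * a * (G.full.nw F L)⁻¹)⁻¹ *
        (G.full.nw F L * (a * f) * (G.full.nw F L)⁻¹) := by group
    have hm : G.full.nw F L * f * (G.full.nw F L)⁻¹ ∈ D.borelSubgroup F ⊓ D.negUnipotent F :=
      Subgroup.mem_inf.mpr ⟨e ▸ mul_mem (inv_mem ha') h, hf'⟩
    rw [G.borel_inf_neg, Subgroup.mem_bot, conj_eq_one_iff] at hm
    rw [hm, mul_one]
    exact ha
  · intro h
    refine pos_le_borel G ?_
    rw [G.posUnipotent_eq]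
    exact G.conj_x_act hact (fun s hs => ⟨hs.1.1, (hpos ⟨s, hs.1.1⟩ hs.1).mpr hs.2⟩) h

theorem smul_mk_eq_iff {n u : D.group F} :
    u • (QuotientGroup.mk n : D.group F ⧸ (G.bnPair F).B) = QuotientGroup.mk n ↔
      (n : GL D.Idx F)⁻¹ * u * n ∈ D.borelSubgroup F := by
  rw [MulAction.Quotient.smul_mk, smul_eq_mul, eq_comm, QuotientGroup.eq]
  change ((n⁻¹ * (u * n) : D.group F) : GL D.Idx F) ∈ D.borelSubgroup F ↔ _
  rw [Subgroup.coe_mul, Subgroup.coe_mul, Subgroup.coe_inv, mul_assoc]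

theorem exists_pos_translate {n : D.group F} (hn : (n : GL D.Idx F) ∈ D.monomialSubgroup F)
    (x : D.group F ⧸ (G.bnPair F).B) (hx : cell (G.bnPair F) x = cellOf (G.bnPair F) n) :
    ∃ u : D.group F, (u : GL D.Idx F) ∈ D.posUnipotent F ∧ u • (QuotientGroup.mk n) = x := by
  obtain ⟨g, rfl⟩ := QuotientGroup.mk_surjective x
  rw [cell_mk] at hx
  have hm := mem_cellOf (P := G.bnPair F) g
  have hn' : n ∈ (G.bnPair F).N := hn
  have hc : cellOf (G.bnPair F) n = QuotientGroup.mk (⟨n, hn'⟩ : (G.bnPair F).N) :=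
    cellOf_eq (self_mem_cosetOf _ _)
  rw [hx, hc, cw_mk] at hm
  obtain ⟨b, hb, c, hc', e⟩ := (mem_cosetOf _).mp hm
  obtain ⟨u, hu, d, hud⟩ := G.mem_borel.mp (show (b : GL D.Idx F) ∈ D.borelSubgroup F from hb)
  have hdG : T.hT F d ∈ D.group F := G.monomial_le_group (G.hT_mem_monomial d)
  refine ⟨⟨u, G.borel_le_group (pos_le_borel G hu)⟩, hu, ?_⟩
  rw [MulAction.Quotient.smul_mk, smul_eq_mul, QuotientGroup.eq, e]
  refine G.mem_borel_subgroupOf.mpr ?_
  simp only [Subgroup.coe_mul, Subgroup.coe_inv, hud]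
  rw [show (u * (n : GL D.Idx F))⁻¹ * (u * T.hT F d * n * c) = (n : GL D.Idx F)⁻¹ * T.hT F d * n * c by group]
  refine mul_mem ?_ hc'
  have hH : T.hT F d ∈ D.diagonalSubgroup F := by rw [G.full.diagonal_eq_range]; exact ⟨d, rfl⟩
  have := G.diagonal_normal.conj_mem ⟨_, G.hT_mem_monomial d⟩
    (by rw [Subgroup.mem_subgroupOf]; exact hH) ⟨_, inv_mem hn⟩
  rw [Subgroup.mem_subgroupOf] at this
  refine Subgroup.mem_sup_right ?_
  simpa using this

theorem fix_iff [Finite (D.group F)] (J : Finset (G.bnPair F).S) {u : D.group F}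
    (hu : (u : GL D.Idx F) ∈ D.posUnipotent F) (x : D.group F ⧸ (G.bnPair F).B)
    (hx : cell (G.bnPair F) x = G.wlong F J) : u • x = x ↔ u ∈ G.radG F J := by
  obtain ⟨n, hn, hc, hiff⟩ := G.exists_rep_cell (F := F) J
  obtain ⟨v, hv, rfl⟩ := G.exists_pos_translate hn x (hx.trans hc.symm)
  have hv' : v ∈ par (G.bnPair F) (J : Set (G.bnPair F).S) :=
    borel_le_par _ (show (v : GL D.Idx F) ∈ D.borelSubgroup F from pos_le_borel G hv)
  rw [smul_smul, eq_comm, eq_comm (a := v • _), ← inv_smul_eq_iff, smul_smul, ← mul_assoc,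
    G.smul_mk_eq_iff]
  have hpos : ((v⁻¹ * u * v : D.group F) : GL D.Idx F) ∈ D.posUnipotent F := by
    simp only [Subgroup.coe_mul, Subgroup.coe_inv]
    exact mul_mem (mul_mem (inv_mem hv) hu) hv
  rw [hiff _ hpos]
  change v⁻¹ * u * v ∈ G.radG F J ↔ _
  constructor
  · intro h
    have := G.radG_conj J hv' h
    rwa [show v * (v⁻¹ * u * v) * v⁻¹ = u by group] at this
  · intro h
    have := G.radG_conj J (inv_mem hv') h
    rwa [inv_inv] at this

theorem transitive [Finite (D.group F)] (J : Finset (G.bnPair F).S) (x y : D.group F ⧸ (G.bnPair F).B)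
    (hx : cell (G.bnPair F) x = G.wlong F J) (hy : cell (G.bnPair F) y = G.wlong F J) :
    ∃ u : D.group F, (u : GL D.Idx F) ∈ D.posUnipotent F ∧ u • x = y := by
  obtain ⟨n, hn, hc, -⟩ := G.exists_rep_cell (F := F) J
  obtain ⟨v, hv, rfl⟩ := G.exists_pos_translate hn x (hx.trans hc.symm)
  obtain ⟨v', hv', rfl⟩ := G.exists_pos_translate hn y (hy.trans hc.symm)
  refine ⟨v' * v⁻¹, ?_, by rw [smul_smul, inv_mul_cancel_right]⟩
  simp only [Subgroup.coe_mul, Subgroup.coe_inv]
  exact mul_mem hv' (inv_mem hv)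

theorem outSet_univ [Fintype (G.bnPair F).S] : G.outSet F Finset.univ = ∅ := by
  refine Set.eq_empty_iff_forall_notMem.mpr fun s hs => ?_
  obtain ⟨j, hj, -⟩ := hs.2
  exact hj (Finset.mem_univ _)

theorem radG_univ [Fintype (G.bnPair F).S] : G.radG F Finset.univ = ⊥ := by
  rw [radG, G.outSet_univ, US]
  simp

end Good

end Tab

end CfsgLib.Chev
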