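import Cfsg.Agent.StCh.Cells
import Cfsg.Agent.Char.Induction
import Cfsg.Agent.Char.Orthogonality
import Mathlib.GroupTheory.GroupAction.Quotient
import Cfsg.Prelude.Def_ParabolicCharacters

/-!
# The Steinberg character of a Tits system
-/

set_option autoImplicit false

namespace CfsgLib.StCh

open Cfsg CfsgLib.BN

attribute [local instance] torus_normal

variable {G : Type*} [Group G] (P : Cfsg.BNPair G)

/-- Each `W_J` has a unique element with all descents in `J`. -/
def HasLongest (wl : Finset P.S → Weyl P) : Prop :=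
  ∀ (J : Finset P.S) (w : Weyl P),
    (WJ P (J : Set P.S) w ∧ ∀ s ∈ J, len P (w * BN.refl P s) < len P w) ↔ w = wl J

/-- The size of the longest cell of `W_J`. -/
noncomputable def cellCard (wl : Finset P.S → Weyl P) (J : Finset P.S) : ℕ :=
  Nat.card {x : G ⧸ P.B // cell P x = wl J}

variable {P} [Finite G] {wl : Finset P.S → Weyl P}

/-- Restricted to `B`, only the big cell remains. -/
theorem stJ_eq (hwl : HasLongest P wl) (J : Finset P.S) {b : G} (hb : b ∈ P.B) :
    stJ P J b = (Nat.card {x : G ⧸ P.B // cell P x = wl J ∧ b • x = x} : ℤ) := by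
  rw [stJ_borel J hb, Nat.card_congr (Equiv.subtypeEquivRight fun x => ?_)]
  rw [← hwl J (cell P x)]
  tauto

theorem stJ_one (hwl : HasLongest P wl) (J : Finset P.S) : stJ P J 1 = (cellCard P wl J : ℤ) := by
  rw [stJ_eq hwl J (one_mem _), cellCard]
  simp only [one_smul, and_true]

/-- The dual identity. -/
theorem sum_index_mul_cellCard (hwl : HasLongest P wl) (J : Finset P.S) :
    ∑ K ∈ J.powerset, (-1 : ℤ) ^ K.card *
      ((fixIn P (J : Set P.S) (K : Set P.S) 1 * cellCard P wl K : ℕ) : ℤ) = 1 := by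
  classical
  let X := {x : G ⧸ P.B // WJ P (J : Set P.S) (cell P x)}
  haveI : Fintype X := Fintype.ofFinite X
  have key := alt_sum J fun (x : X) s => len P (cell P x.1 * BN.refl P s) < len P (cell P x.1)
  have h1 : Nat.card {x : X // ∀ s ∈ J, ¬ len P (cell P x.1 * BN.refl P s) < len P (cell P x.1)} = 1 := by
    have hone : cell P (QuotientGroup.mk (1 : G)) = 1 := by rw [cell_mk, cellOf_eq_one]; exact one_mem _
    rw [Nat.card_eq_one_iff_exists]
    refine ⟨⟨⟨QuotientGroup.mk 1, hone ▸ wJ_one _⟩, fun s _ => ?_⟩, fun x => Subtype.ext (Subtype.ext ?_)⟩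
    · simp only [hone, one_mul, len_one, not_lt_zero, not_false_eq_true]
    · have hc : cell P x.1.1 = 1 := rRed_eq_one x.1.2 fun s hs =>
        (len_lt_or _ s).resolve_right (x.2 s hs)
      obtain ⟨g, hg⟩ := QuotientGroup.mk_surjective x.1.1
      rw [← hg, cell_mk, cellOf_eq_one] at hc
      rw [← hg, QuotientGroup.eq, mul_one]
      exact inv_mem hc
  rw [h1, Nat.cast_one] at key
  refine Eq.trans (Finset.sum_congr rfl fun K hK => ?_) key
  congr 2
  have hKJ : (K : Set P.S) ⊆ J := Finset.coe_subset.2 (Finset.mem_powerset.1 hK)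
  rw [fixIn_borel hKJ (one_mem _), cellCard, ← Nat.card_prod]
  refine Nat.card_congr (Equiv.ofBijective (fun p => ⟨⟨p.1.1.out • p.2.1, ?_⟩, ?_⟩) ⟨?_, ?_⟩)
  · obtain ⟨g, hg⟩ := QuotientGroup.mk_surjective p.2.1
    have hz : cellOf P g = wl K := by rw [← cell_mk (P := P), hg]; exact p.2.2
    rw [← hg, MulAction.Quotient.smul_mk, cell_mk, smul_eq_mul,
      cellOf_eq (cw_mul_min p.1.2.1 ((hwl K _).2 hz).1 (mem_cellOf _) (mem_cellOf g))]
    exact wJ_mul p.1.2.2.1 (wJ_mono hKJ ((hwl K _).2 hz).1)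
  · intro s hs
    obtain ⟨g, hg⟩ := QuotientGroup.mk_surjective p.2.1
    have hz : cellOf P g = wl K := by rw [← cell_mk (P := P), hg]; exact p.2.2
    obtain ⟨hu, hd⟩ := (hwl K _).2 hz
    dsimp only
    rw [← hg, MulAction.Quotient.smul_mk, cell_mk, smul_eq_mul,
      cellOf_eq (cw_mul_min p.1.2.1 hu (mem_cellOf _) (mem_cellOf g)), mul_assoc]
    have h1 := p.1.2.1.min _ hu
    have h2 := p.1.2.1.min _ (wJ_mul hu (wJ_refl hs))
    have h3 := hd s hs
    change len P (cellOf P p.1.1.out * (cellOf P g * BN.refl P s)) <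
      len P (cellOf P p.1.1.out * cellOf P g)
    rw [show cellOf P p.1.1.out = cell P p.1.1 from rfl, h1, h2]
    omega
  · intro p p' e
    have e' : p.1.1.out • p.2.1 = p'.1.1.out • p'.2.1 := congrArg (fun q => q.1.1) e
    have hz : ∀ q : {x : G ⧸ P.B // cell P x = wl K}, proj P (K : Set P.S) q.1 = QuotientGroup.mk 1 := by
      intro q
      obtain ⟨g, hg⟩ := QuotientGroup.mk_surjective q.1
      rw [← hg, proj_mk, eq_comm, QuotientGroup.eq, inv_one, one_mul, mem_par_iff, ← cell_mk, hg]
      exact ((hwl K _).2 q.2).1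
    have e2 := congrArg (proj P (K : Set P.S)) e'
    rw [proj_smul, proj_smul, hz, hz] at e2
    have hx : ∀ x : G ⧸ P.B, x.out • (QuotientGroup.mk 1 : G ⧸ par P (K : Set P.S)) = proj P (K : Set P.S) x := by
      intro x
      conv_rhs => rw [← QuotientGroup.out_eq' x]
      rw [MulAction.Quotient.smul_mk, smul_eq_mul, mul_one, proj_mk]
    rw [hx, hx] at e2
    have hxx : p.1 = p'.1 := Subtype.ext (rRed_proj_inj p.1.2.1 p'.1.2.1 e2)
    refine Prod.ext hxx (Subtype.ext ?_)
    rw [hxx] at e'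
    exact MulAction.injective _ e'
  · rintro ⟨⟨y, hyJ⟩, hy⟩
    obtain ⟨g, hg⟩ := QuotientGroup.mk_surjective y
    obtain ⟨x, hx, hxg⟩ := exists_rRed (K : Set P.S) g
    obtain ⟨h, hh⟩ := QuotientGroup.mk_surjective x
    have hxJ : WJ P (J : Set P.S) (cell P x) := by
      rw [← proj_out_mem hKJ, hxg, mem_par_out hKJ, mem_par_iff, ← cell_mk, hg]
      exact hyJ
    have hp : x.out⁻¹ * g ∈ par P (K : Set P.S) := by
      rw [← QuotientGroup.eq, ← hxg]
      conv_rhs => rw [← QuotientGroup.out_eq' x]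
      rfl
    set u := cellOf P (x.out⁻¹ * g) with hu_def
    have hu : WJ P (K : Set P.S) u := mem_par_iff.1 hp
    have hc : cell P y = cell P x * u := by
      have := cw_mul_min hx hu (mem_cellOf x.out) (mem_cellOf (x.out⁻¹ * g))
      rw [mul_inv_cancel_left] at this
      rw [← hg, cell_mk, cellOf_eq this]
    have hd : ∀ s ∈ K, len P (u * BN.refl P s) < len P u := by
      intro s hs
      have h1 := hy s hs
      simp only at h1
      rw [hc, mul_assoc, hx.min _ hu, hx.min _ (wJ_mul hu (wJ_refl hs))] at h1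
      omega
    refine ⟨(⟨x, hx, hxJ, one_smul _ _⟩, ⟨x.out⁻¹ • y, ?_⟩), Subtype.ext (Subtype.ext ?_)⟩
    · rw [← hg, MulAction.Quotient.smul_mk, cell_mk, smul_eq_mul]
      exact (hwl K u).1 ⟨hu, hd⟩
    · simp only [smul_inv_smul]

variable [Fintype P.S]

/-- The Steinberg character. -/
noncomputable def st (P : Cfsg.BNPair G) [Fintype P.S] (g : G) : ℂ :=
  ∑ J ∈ (Finset.univ : Finset P.S).powerset,
    (-1 : ℂ) ^ J.card * Cfsg.fixedPointCharacter (par P (J : Set P.S)) g

theorem st_eq (g : G) : st P g = (stJ P Finset.univ g : ℂ) := by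
  rw [st, stJ]
  push_cast
  refine Finset.sum_congr rfl fun K _ => ?_
  congr 1
  rw [Cfsg.fixedPointCharacter, fixIn]
  congr 1
  refine Nat.card_congr (Equiv.subtypeEquivRight fun y => ?_)
  simp [par_univ, MulAction.mem_fixedBy]

theorem fixedPointCharacter_eq [Fintype G] (H : Subgroup G) :
    Cfsg.fixedPointCharacter H = Cfsg.indFun H (fun _ => 1) := by
  have h := CfsgLib.Char.indFun_one_stabilizer (G := G) (X := G ⧸ H) (QuotientGroup.mk 1)
  rw [MulAction.stabilizer_quotient] at h
  rw [h]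
  rfl

theorem isClassFunction_st [Fintype G] : Cfsg.IsClassFunction G (st P) := by
  intro g h
  simp only [st_eq]
  rw [stJ_conj Finset.univ (by simp [par_univ]) g]

theorem isGeneralized_st [Fintype G] : Cfsg.IsGeneralizedCharacter G (st P) := by
  have : st P = fun g => ∑ J ∈ (Finset.univ : Finset P.S).powerset,
      ((((-1 : ℤ) ^ J.card : ℤ) : ℂ) • Cfsg.indFun (par P (J : Set P.S)) (fun _ => 1)) g := by
    funext g
    rw [st]
    refine Finset.sum_congr rfl fun J _ => ?_
    rw [Pi.smul_apply, fixedPointCharacter_eq, smul_eq_mul]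
    push_cast
    rfl
  rw [this, show (fun g => ∑ J ∈ (Finset.univ : Finset P.S).powerset,
      ((((-1 : ℤ) ^ J.card : ℤ) : ℂ) • Cfsg.indFun (par P (J : Set P.S)) (fun _ => 1)) g) =
      ∑ J ∈ (Finset.univ : Finset P.S).powerset,
      (((-1 : ℤ) ^ J.card : ℤ) : ℂ) • Cfsg.indFun (par P (J : Set P.S)) (fun _ => 1) by
    funext g; rw [Finset.sum_apply]]
  refine CfsgLib.Char.isGeneralized_sum _ fun J _ => ?_
  exact CfsgLib.Char.IsGeneralized.intCast_smul
    (CfsgLib.Char.IsGeneralized.indFun CfsgLib.Char.isGeneralized_one) _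

theorem lRed_longest_iff (hwl : HasLongest P wl) (J : Finset P.S) :
    LRed P (J : Set P.S) (wl Finset.univ) ↔ J = ∅ := by
  classical
  haveI : Finite (Weyl P) := Quotient.finite _
  haveI : Fintype (Weyl P) := Fintype.ofFinite _
  obtain ⟨w, -, hw⟩ := Finset.exists_max_image Finset.univ (len P) ⟨(1 : Weyl P), Finset.mem_univ _⟩
  obtain rfl : w = wl Finset.univ := by
    refine (hwl _ _).1 ⟨?_, fun s _ => (len_lt_or w s).resolve_left
      (not_lt.2 (hw _ (Finset.mem_univ _)))⟩
    obtain ⟨L, hL⟩ := exists_word P w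
    exact ⟨L, by simp, hL⟩
  constructor
  · intro h
    by_contra hne
    obtain ⟨s, hs⟩ := Finset.nonempty_iff_ne_empty.2 hne
    exact absurd (h s hs) (not_lt.2 (hw _ (Finset.mem_univ _)))
  · rintro rfl s hs
    exact absurd hs (by simp)

/-- The orbits of `P_J` on the cosets of `P_K`. -/
theorem card_orbits (J K : Set P.S) :
    Nat.card (MulAction.orbitRel.Quotient (par P J) (G ⧸ par P K)) =
      Nat.card {w : Weyl P // LRed P J w ∧ RRed P K w} := by
  classical
  symm
  choose n hn using fun w : Weyl P => QuotientGroup.mk_surjective w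
  refine Nat.card_congr (Equiv.ofBijective
    (fun w => Quotient.mk'' (QuotientGroup.mk (n w.1).1 : G ⧸ par P K)) ⟨?_, ?_⟩)
  · intro w w' e
    rw [Quotient.eq'', MulAction.orbitRel_apply] at e
    obtain ⟨⟨q, hq⟩, e⟩ := e
    have e : (QuotientGroup.mk (q * (n w'.1).1) : G ⧸ par P K) = QuotientGroup.mk (n w.1).1 := e
    rw [QuotientGroup.eq] at e
    have hcell : ∀ v : Weyl P, (n v).1 ∈ cw P v := fun v => by
      rw [← hn v, cw_mk, hn v]
      exact self_mem_cosetOf P _
    -- left factor
    have hq' := mem_par_iff.1 (inv_mem hq)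
    set r := (q * (n w'.1).1)⁻¹ * (n w.1).1
    have h1 : cellOf P (q * (n w'.1).1) = cellOf P q * w'.1 := by
      have h' := cw_mul_min (lRed_iff_rRed_inv.1 w'.2.1) hq'
        (inv_mem_cw P (hcell w'.1)) (mem_cellOf q⁻¹)
      have := inv_mem_cw P h'
      simp only [mul_inv_rev, inv_inv, cellOf_inv] at this
      exact cellOf_eq this
    have hr : WJ P K (cellOf P r⁻¹) := mem_par_iff.1 (inv_mem e)
    have h2 := cw_mul_min w.2.2 hr (hcell w.1) (mem_cellOf r⁻¹)
    have h3 : (n w.1).1 * r⁻¹ = q * (n w'.1).1 := by simp [r]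
    rw [h3] at h2
    rw [cellOf_eq h2] at h1
    refine (double_unique w'.2.1 w'.2.2 w.2.1 w.2.2 (mem_par_iff.1 hq) (wJ_inv hr)
      (eq_mul_inv_of_mul_eq h1) |> fun h => Subtype.ext h)
  · intro o
    induction o using Quotient.inductionOn' with
    | h y =>
      induction y using QuotientGroup.induction_on with
      | H g =>
        have hne : ∃ k, ∃ q ∈ par P J, ∃ r ∈ par P K, len P (cellOf P (q * g * r)) = k :=
          ⟨_, 1, one_mem _, 1, one_mem _, rfl⟩
        obtain ⟨q, hq, r, hr, hk⟩ := Nat.find_spec hne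
        set h := q * g * r
        have hR : RRed P K (cellOf P h) := by
          obtain ⟨x, hx, hxh⟩ := exists_rRed K h
          obtain ⟨h', rfl⟩ := QuotientGroup.mk_surjective x
          rw [cell_mk] at hx
          rw [proj_mk, QuotientGroup.eq] at hxh
          have hu := mem_par_iff.1 hxh
          have hc := cw_mul_min hx hu (mem_cellOf h') (mem_cellOf (h'⁻¹ * h))
          rw [mul_inv_cancel_left] at hc
          have := Nat.find_min' hne ⟨q, hq, r * (h'⁻¹ * h)⁻¹, mul_mem hr (inv_mem hxh), rfl⟩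
          rw [show q * g * (r * (h'⁻¹ * h)⁻¹) = h' by simp [h]; group] at this
          rw [← hk, cellOf_eq hc, hx.min _ hu] at this
          rw [cellOf_eq hc, eq_one_of_len P (show len P (cellOf P (h'⁻¹ * h)) = 0 by omega), mul_one]
          exact hx
        have hL : LRed P J (cellOf P h) := by
          rw [lRed_iff_rRed_inv, ← cellOf_inv]
          obtain ⟨x, hx, hxh⟩ := exists_rRed J h⁻¹
          obtain ⟨h', rfl⟩ := QuotientGroup.mk_surjective x
          rw [cell_mk] at hx
          rw [proj_mk, QuotientGroup.eq] at hxh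
          have hu := mem_par_iff.1 hxh
          have hc := cw_mul_min hx hu (mem_cellOf h') (mem_cellOf (h'⁻¹ * h⁻¹))
          rw [mul_inv_cancel_left] at hc
          have := Nat.find_min' hne ⟨(h'⁻¹ * h⁻¹) * q, mul_mem hxh hq, r, hr, rfl⟩
          rw [show (h'⁻¹ * h⁻¹) * q * g * r = h'⁻¹ by simp [h]; group] at this
          rw [← hk, cellOf_inv, len_inv, ← len_inv P (cellOf P h), ← cellOf_inv, cellOf_eq hc,
            hx.min _ hu] at this
          rw [cellOf_eq hc, eq_one_of_len P (show len P (cellOf P (h'⁻¹ * h⁻¹)) = 0 by omega), mul_one]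
          exact hx
        refine ⟨⟨cellOf P h, hL, hR⟩, ?_⟩
        have hm := mem_cellOf (P := P) h
        rw [← hn (cellOf P h), cw_mk] at hm
        obtain ⟨b, hb, c, hc, e⟩ := (mem_cosetOf P).1 hm
        rw [Quotient.eq'', MulAction.orbitRel_apply]
        dsimp only
        generalize n (cellOf P h) = m at e ⊢
        refine ⟨⟨b⁻¹ * q, mul_mem (inv_mem (borel_le_par J hb)) hq⟩, ?_⟩
        change (QuotientGroup.mk (b⁻¹ * q * g) : G ⧸ par P K) = _
        rw [QuotientGroup.eq,
          show (b⁻¹ * q * g)⁻¹ * m.1 = r * (b⁻¹ * h)⁻¹ * m.1 by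
            simp [h]; group, e]
        have : r * (b⁻¹ * (b * m.1 * c))⁻¹ * m.1 = r * c⁻¹ := by group
        rw [this]
        exact mul_mem hr (inv_mem (borel_le_par K hc))

/-- Frobenius reciprocity for the Steinberg character. -/
theorem sum_par_st [Fintype G] [DecidableEq P.S] (hwl : HasLongest P wl) (J : Finset P.S) [Fintype (par P (J : Set P.S))] :
    ∑ q : par P (J : Set P.S), st P (q : G) =
      if J = ∅ then (Nat.card (par P (J : Set P.S)) : ℂ) else 0 := by
  classical
  haveI : Finite (Weyl P) := Quotient.finite _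
  haveI : Fintype (Weyl P) := Fintype.ofFinite _
  simp only [st]
  rw [Finset.sum_comm]
  have horb : ∀ K : Set P.S, ∑ q : par P (J : Set P.S), Cfsg.fixedPointCharacter (par P K) (q : G) =
      (Nat.card {w : Weyl P // LRed P (J : Set P.S) w ∧ RRed P K w} : ℂ) *
        (Nat.card (par P (J : Set P.S)) : ℂ) := by
    intro K
    have h := MulAction.sum_card_fixedBy_eq_card_orbits_mul_card_group (par P (J : Set P.S)) (G ⧸ par P K)
    simp only [← Nat.card_eq_fintype_card] at h
    rw [show Nat.card (Quotient (MulAction.orbitRel (par P (J : Set P.S)) (G ⧸ par P K))) =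
      Nat.card (MulAction.orbitRel.Quotient (par P (J : Set P.S)) (G ⧸ par P K)) from rfl,
      card_orbits] at h
    rw [← Nat.cast_mul, ← h, Nat.cast_sum]
    rfl
  simp only [← Finset.mul_sum, horb, ← mul_assoc, ← Finset.sum_mul]
  let X := {w : Weyl P // LRed P (J : Set P.S) w}
  have key := alt_sum (Finset.univ : Finset P.S)
    fun (w : X) s => len P w.1 < len P (w.1 * BN.refl P s)
  have e : ∀ Q : Weyl P → Prop, Nat.card {w : X // Q w.1} =
      Nat.card {w : Weyl P // LRed P (J : Set P.S) w ∧ Q w} := fun Q =>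
    Nat.card_congr (Equiv.subtypeSubtypeEquivSubtypeInter _ Q)
  have hsum : ∑ K ∈ (Finset.univ : Finset P.S).powerset,
      (-1 : ℂ) ^ K.card * (Nat.card {w : Weyl P // LRed P (J : Set P.S) w ∧ RRed P (K : Set P.S) w} : ℂ) =
      (Nat.card {w : X // ∀ s ∈ (Finset.univ : Finset P.S), ¬ len P w.1 < len P (w.1 * BN.refl P s)} : ℂ) := by
    have := congrArg (fun z : ℤ => (z : ℂ)) key
    push_cast at this
    rw [← this]
    refine Finset.sum_congr rfl fun K _ => ?_
    rw [← e fun w => RRed P (K : Set P.S) w]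
    rfl
  rw [hsum]
  simp only [not_len_lt]
  rw [e fun w => ∀ s ∈ (Finset.univ : Finset P.S), len P (w * BN.refl P s) < len P w]
  have hiff : ∀ w : Weyl P, (LRed P (J : Set P.S) w ∧
      ∀ s ∈ (Finset.univ : Finset P.S), len P (w * BN.refl P s) < len P w) ↔
      (w = wl Finset.univ ∧ J = ∅) := by
    intro w
    rw [← lRed_longest_iff hwl J]
    constructor
    · rintro ⟨h1, h2⟩
      have hw : w = wl Finset.univ := (hwl _ w).1 ⟨by
        obtain ⟨L, hL⟩ := exists_word P w
        exact ⟨L, by simp, hL⟩, h2⟩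
      exact ⟨hw, hw ▸ h1⟩
    · rintro ⟨rfl, h1⟩
      exact ⟨h1, ((hwl _ _).2 rfl).2⟩
  rw [Nat.card_congr (Equiv.subtypeEquivRight hiff)]
  by_cases hJ : J = ∅
  · simp [hJ]
  · simp [hJ]

theorem classInner_st [Fintype G] (hwl : HasLongest P wl) : Cfsg.classInner (st P) (st P) = 1 := by
  classical
  have hst : st P = ∑ J ∈ (Finset.univ : Finset P.S).powerset,
      ((-1 : ℂ) ^ J.card) • Cfsg.indFun (par P (J : Set P.S)) (fun _ => 1) := by
    funext g
    rw [Finset.sum_apply, st]
    refine Finset.sum_congr rfl fun J _ => ?_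
    rw [Pi.smul_apply, fixedPointCharacter_eq, smul_eq_mul]
  conv_lhs => arg 1; rw [hst]
  rw [CfsgLib.Char.classInner_sum_left, Finset.sum_eq_single ∅]
  · rw [CfsgLib.Char.classInner_smul_left, CfsgLib.Char.classInner_indFun _ isClassFunction_st,
      Finset.card_empty, pow_zero, one_mul, CfsgLib.Char.classInner_def]
    have h := sum_par_st hwl (∅ : Finset P.S)
    rw [if_pos rfl] at h
    simp only [one_mul]
    rw [← map_sum, h, Complex.conj_natCast, inv_mul_cancel₀ (Nat.cast_ne_zero.2 Nat.card_pos.ne')]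
  · intro J _ hJ
    rw [CfsgLib.Char.classInner_smul_left, CfsgLib.Char.classInner_indFun _ isClassFunction_st,
      CfsgLib.Char.classInner_def]
    have h := sum_par_st hwl J
    rw [if_neg hJ] at h
    simp only [one_mul]
    rw [← map_sum, h, map_zero, mul_zero, mul_zero]
  · intro h
    exact absurd (Finset.empty_mem_powerset _) h

theorem st_one (hwl : HasLongest P wl) : st P 1 = (cellCard P wl Finset.univ : ℂ) := by
  rw [st_eq, stJ_one hwl, Int.cast_natCast]

theorem cellCard_pos (hwl : HasLongest P wl) (J : Finset P.S) : 0 < cellCard P wl J := by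
  obtain ⟨g, hg⟩ := cw_nonempty P (wl J)
  haveI : Nonempty {x : G ⧸ P.B // cell P x = wl J} :=
    ⟨⟨QuotientGroup.mk g, by rw [cell_mk, cellOf_eq hg]⟩⟩
  exact Nat.card_pos

/-- The Steinberg character is irreducible. -/
theorem isIrr_st [Fintype G] (hwl : HasLongest P wl) : Cfsg.IsIrrCharacter G (st P) := by
  rcases CfsgLib.Char.IsGeneralized.isIrr_or_neg isGeneralized_st (classInner_st hwl) with h | h
  · exact h
  exfalso
  obtain ⟨k, ρ, -, hρ⟩ := h
  have h1 : (-st P) 1 = (Module.finrank ℂ (Fin k → ℂ) : ℂ) := by rw [← hρ]; exact ρ.char_one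
  rw [Pi.neg_apply, st_one hwl, neg_eq_iff_add_eq_zero, ← Nat.cast_add, Nat.cast_eq_zero] at h1
  have := cellCard_pos hwl (Finset.univ : Finset P.S)
  omega

end CfsgLib.StCh
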