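import Cfsg.Agent.StCh.ChevRad
import Cfsg.Agent.Blocks.DefectZeroVanish
import Mathlib.LinearAlgebra.Matrix.GeneralLinearGroup.Basic

/-!
# The Steinberg character of the Chevalley groups
-/

set_option autoImplicit false

namespace CfsgLib.Chev

open Cfsg.Lie Matrix CfsgLib.BN CfsgLib.StCh
open scoped MatrixGroups

attribute [local instance] torus_normal

namespace Tab

variable {D : ChevalleyDatum}

namespace Good

variable {T : Tab D} (G : T.Good) {F : Type*} [Field F]
include G

theorem parabolicIn_eq (J : Finset (G.bnPair F).S) (K : Finset ℕ)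
    (h : ∀ i : Fin D.rank, i.val ∈ K ↔ G.sref F i ∈ J) :
    D.parabolicIn F K = par (G.bnPair F) (J : Set (G.bnPair F).S) := by
  have hmap : (par (G.bnPair F) (J : Set (G.bnPair F).S)).map (D.group F).subtype =
      D.parabolicSubgroup F (K : Set ℕ) := by
    rw [par, Cfsg.BNPair.parabolic, Subgroup.map_sup, MonoidHom.map_closure]
    change ((D.borelSubgroup F).subgroupOf (D.group F)).map (D.group F).subtype ⊔ _ = _
    rw [Subgroup.subgroupOf, Subgroup.map_comap_eq, Subgroup.range_subtype,
      inf_of_le_right G.borel_le_group]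
    refine congrArg (D.borelSubgroup F ⊔ Subgroup.closure ·) ?_
    ext g
    constructor
    · rintro ⟨_, ⟨s, hs, rfl⟩, rfl⟩
      obtain ⟨i, rfl⟩ := G.exists_index s
      exact ⟨i, Finset.mem_coe.mpr ((h i).mpr hs), i.isLt, by
        rw [Subgroup.subtype_apply, show ((G.sref F i).1 : GL D.Idx F) = G.full.ns F i from rfl, Full.ns,
          G.full.coe_nr _ (G.full.simple_lt i.isLt)]⟩
    · rintro ⟨j, hj, hlt, hg⟩
      refine ⟨(G.sref F ⟨j, hlt⟩).1, ⟨_, (h ⟨j, hlt⟩).mp (Finset.mem_coe.mp hj), rfl⟩, Units.ext ?_⟩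
      rw [hg]
      exact G.full.coe_nr _ (G.full.simple_lt hlt) 1
  rw [ChevalleyDatum.parabolicIn, ← hmap, Subgroup.subgroupOf,
    Subgroup.comap_map_eq_self_of_injective (Subgroup.subtype_injective _)]

theorem steinberg_eq [Finite (D.group F)] [Fintype (G.bnPair F).S] :
    D.steinbergCharacter F = st (G.bnPair F) := by
  classical
  funext g
  rw [ChevalleyDatum.steinbergCharacter, st]
  refine (Finset.sum_nbij'
    (fun J => (Finset.univ.filter fun i => G.sref F i ∈ J).image Fin.val)
    (fun K => (Finset.univ.filter fun i : Fin D.rank => i.val ∈ K).image (G.sref F))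
    ?_ ?_ ?_ ?_ ?_).symm
  · intro J _
    rw [Finset.mem_powerset]
    intro k hk
    obtain ⟨i, -, rfl⟩ := Finset.mem_image.mp hk
    exact Finset.mem_range.mpr i.isLt
  · intro K _
    exact Finset.mem_powerset.mpr (Finset.subset_univ _)
  · intro J _
    ext s
    obtain ⟨i, rfl⟩ := G.exists_index s
    simp [(G.sref_bijective).1.eq_iff, ← Fin.ext_iff]
  · intro K hK
    ext k
    simp only [Finset.mem_image, Finset.mem_filter, Finset.mem_univ, true_and,
      (G.sref_bijective (F := F)).1.eq_iff, exists_eq_right]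
    exact ⟨fun ⟨i, hi, e⟩ => e ▸ hi,
      fun hk => ⟨⟨k, Finset.mem_range.mp (Finset.mem_powerset.mp hK hk)⟩, hk, rfl⟩⟩
  · intro J _
    rw [Finset.card_image_of_injective _ Fin.val_injective, G.parabolicIn_eq J _ (fun i => by
      simp [← Fin.ext_iff])]
    congr 2
    rw [← Finset.card_image_of_injective (Finset.univ.filter fun i => G.sref F i ∈ J)
      (G.sref_bijective (F := F)).1]
    congr 1
    ext s
    obtain ⟨i, rfl⟩ := G.exists_index s
    simp [(G.sref_bijective).1.eq_iff]

theorem cellCard_univ [Fintype F] [Finite (D.group F)] [Fintype (G.bnPair F).S] :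
    cellCard (G.bnPair F) (G.wlong F) Finset.univ = Fintype.card F ^ (D.nroots / 2) := by
  obtain ⟨n, hn, hc, -⟩ := G.exists_rep_cell (F := F) (Finset.univ : Finset (G.bnPair F).S)
  have hle : D.posUnipotent F ≤ D.group F := le_trans le_sup_left G.borel_le_group
  rw [← Nat.card_eq_fintype_card (α := F),
    show Nat.card F ^ (D.nroots / 2) = Nat.card (D.posUnipotent F) by
      rw [G.posUnipotent_eq, G.card_US G.closed_pos, G.card_pos], cellCard]
  refine (Nat.card_congr (Equiv.ofBijective (fun u : D.posUnipotent F =>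
    (⟨(⟨u.1, hle u.2⟩ : D.group F) • QuotientGroup.mk n, ?_⟩ :
      {x : D.group F ⧸ (G.bnPair F).B // cell (G.bnPair F) x = G.wlong F Finset.univ})) ⟨?_, ?_⟩)).symm
  · rw [cell_smul (show (⟨u.1, hle u.2⟩ : D.group F) ∈ (G.bnPair F).B from pos_le_borel G u.2),
      cell_mk, hc]
  · intro u v e
    have e' := congrArg Subtype.val e
    simp only at e'
    rw [← inv_smul_eq_iff, smul_smul, G.fix_iff Finset.univ
      (by simp only [Subgroup.coe_mul, Subgroup.coe_inv]; exact mul_mem (inv_mem v.2) u.2) _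
      (by rw [cell_mk, hc]), G.radG_univ, Subgroup.mem_bot, inv_mul_eq_one] at e'
    exact Subtype.ext (congrArg Subtype.val e').symm
  · rintro ⟨x, hx⟩
    obtain ⟨u, hu, e⟩ := G.exists_pos_translate hn x (hx.trans hc.symm)
    exact ⟨⟨u, hu⟩, Subtype.ext e⟩

theorem borel_fixed [Fintype F] [Finite (D.group F)] [Fintype (G.bnPair F).S]
    (b : ↥((D.borelSubgroup F).subgroupOf (D.group F))) :
    D.steinbergCharacter F (b : D.group F) = Cfsg.fixedPointCharacter
      (((D.diagonalSubgroup F).subgroupOf (D.group F)).subgroupOf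
        ((D.borelSubgroup F).subgroupOf (D.group F))) b := by
  rw [G.steinberg_eq, st_eq, stJ_eq G.hasLongest Finset.univ b.2, Cfsg.fixedPointCharacter,
    Int.cast_natCast]
  congr 1
  symm
  obtain ⟨n, hn, hc, hiff⟩ := G.exists_rep_cell (F := F) (Finset.univ : Finset (G.bnPair F).S)
  set x₀ : D.group F ⧸ (G.bnPair F).B := QuotientGroup.mk n
  have hstab : MulAction.stabilizer ((D.borelSubgroup F).subgroupOf (D.group F)) x₀ =
      ((D.diagonalSubgroup F).subgroupOf (D.group F)).subgroupOf ((D.borelSubgroup F).subgroupOf (D.group F)) := by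
    ext a
    rw [MulAction.mem_stabilizer_iff, Subgroup.mem_subgroupOf, Subgroup.mem_subgroupOf]
    change (a : D.group F) • x₀ = x₀ ↔ _
    rw [G.smul_mk_eq_iff]
    obtain ⟨u, hu, d, hud⟩ := G.mem_borel.mp (show ((a : D.group F) : GL D.Idx F) ∈ D.borelSubgroup F from a.2)
    have hH : T.hT F d ∈ D.diagonalSubgroup F := by rw [G.full.diagonal_eq_range]; exact ⟨d, rfl⟩
    have hnd : (n : GL D.Idx F)⁻¹ * T.hT F d * n ∈ D.borelSubgroup F := by
      have := G.diagonal_normal.conj_mem ⟨_, G.hT_mem_monomial d⟩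
        (by rw [Subgroup.mem_subgroupOf]; exact hH) ⟨_, inv_mem hn⟩
      rw [Subgroup.mem_subgroupOf] at this
      exact Subgroup.mem_sup_right (by simpa using this)
    rw [hud, show (n : GL D.Idx F)⁻¹ * (u * T.hT F d) * n =
      (n : GL D.Idx F)⁻¹ * u * n * ((n : GL D.Idx F)⁻¹ * T.hT F d * n) by group,
      Subgroup.mul_mem_cancel_right _ hnd, hiff u hu, G.outSet_univ]
    constructor
    · intro h
      rw [US] at h
      simp at h
      rw [h, one_mul]
      exact hH
    · intro h
      have h2 : u ∈ D.posUnipotent F ⊓ D.diagonalSubgroup F :=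
        Subgroup.mem_inf.mpr ⟨hu, by simpa using mul_mem h (inv_mem hH)⟩
      rw [G.pos_inf_diagonal, Subgroup.mem_bot] at h2
      rw [h2]
      exact one_mem _
  let e : ((D.borelSubgroup F).subgroupOf (D.group F)) ⧸ ((D.diagonalSubgroup F).subgroupOf (D.group F)).subgroupOf ((D.borelSubgroup F).subgroupOf (D.group F)) →
      {x : D.group F ⧸ (G.bnPair F).B // cell (G.bnPair F) x = G.wlong F Finset.univ} := fun q =>
    ⟨(q.out : ((D.borelSubgroup F).subgroupOf (D.group F))) • x₀, by
      change cell (G.bnPair F) ((q.out : D.group F) • x₀) = _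
      rw [cell_smul q.out.2, cell_mk, hc]⟩
  have he : Function.Bijective e := by
    constructor
    · intro q q' h
      have h' := congrArg Subtype.val h
      simp only [e] at h'
      rw [← QuotientGroup.out_eq' q, ← QuotientGroup.out_eq' q', QuotientGroup.eq]
      refine hstab.le ?_
      rw [MulAction.mem_stabilizer_iff, mul_smul, inv_smul_eq_iff]
      exact h'.symm
    · rintro ⟨x, hx⟩
      obtain ⟨u, hu, rfl⟩ := G.exists_pos_translate hn x (hx.trans hc.symm)
      let a : ((D.borelSubgroup F).subgroupOf (D.group F)) := ⟨u, pos_le_borel G hu⟩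
      refine ⟨QuotientGroup.mk a, Subtype.ext ?_⟩
      obtain ⟨k, hk⟩ := QuotientGroup.mk_out_eq_mul
        (((D.diagonalSubgroup F).subgroupOf (D.group F)).subgroupOf ((D.borelSubgroup F).subgroupOf (D.group F))) a
      have hk2 : (k : ((D.borelSubgroup F).subgroupOf (D.group F))) • x₀ = x₀ := MulAction.mem_stabilizer_iff.mp (hstab.symm ▸ k.2)
      change (QuotientGroup.mk a : ((D.borelSubgroup F).subgroupOf (D.group F)) ⧸ _).out • x₀ = u • x₀
      rw [hk, mul_smul, hk2]
      rfl
  refine Nat.card_congr (((Equiv.ofBijective e he).subtypeEquiv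
    (q := fun x => (b : D.group F) • x.1 = x.1) fun q => ?_).trans
    (Equiv.subtypeSubtypeEquivSubtypeInter _ (fun x => (b : D.group F) • x = x)))
  rw [MulAction.mem_fixedBy]
  change _ ↔ (b : ((D.borelSubgroup F).subgroupOf (D.group F))) • (q.out : ((D.borelSubgroup F).subgroupOf (D.group F))) • x₀ = q.out • x₀
  conv_lhs => rw [← QuotientGroup.out_eq' q]
  rw [MulAction.Quotient.smul_mk, QuotientGroup.eq]
  refine (SetLike.ext_iff.mp hstab _).symm.trans ?_
  rw [MulAction.mem_stabilizer_iff, smul_eq_mul, mul_smul, inv_smul_eq_iff, mul_smul, eq_comm]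

theorem sylow_card [Fintype F] (p : ℕ) [Fact p.Prime] [CharP F p] :
    Fintype.card F ^ (D.nroots / 2) = p ^ (Nat.card (D.group F)).factorization p := by
  obtain ⟨S, hS⟩ := G.exists_sylow (F := F) p
  have hle : D.posUnipotent F ≤ D.group F := le_trans le_sup_left G.borel_le_group
  rw [← S.card_eq_multiplicity, hS, Nat.card_congr (Subgroup.subgroupOfEquivOfLe hle).toEquiv,
    G.posUnipotent_eq, G.card_US G.closed_pos, G.card_pos, Nat.card_eq_fintype_card]

theorem count_unipotent [Fintype F] [Finite (D.group F)] (p : ℕ) [Fact p.Prime] [CharP F p] :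
    Nat.card {g : ↥(D.group F) // ∃ k : ℕ, orderOf g = p ^ k} =
      Fintype.card F ^ (2 * (D.nroots / 2)) := by
  haveI : Fintype (G.bnPair F).S := Fintype.ofFinite _
  obtain ⟨S, hS⟩ := G.exists_sylow (F := F) p
  have hle : D.posUnipotent F ≤ D.group F := le_trans le_sup_left G.borel_le_group
  have hmem : ∀ u, u ∈ (S : Subgroup (D.group F)) ↔ (u : GL D.Idx F) ∈ D.posUnipotent F := fun u => by
    rw [hS, Subgroup.mem_subgroupOf]
  have h := pCount_par_eq G.hasLongest S
    (fun u hu => pos_le_borel G ((hmem u).mp hu)) (G.radG F)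
    (fun J => (G.radG_le J).trans hS.ge) (fun J q hq r hr => G.radG_conj J hq hr)
    (fun J u hu x hx => G.fix_iff J ((hmem u).mp hu) x hx)
    (fun J x y hx hy => by
      obtain ⟨u, hu, e⟩ := G.transitive J x y hx hy
      exact ⟨u, (hmem u).mpr hu, e⟩) Finset.univ
  rw [Finset.coe_univ, par_univ, pCount, G.cellCard_univ, hS,
    Nat.card_congr (Subgroup.subgroupOfEquivOfLe hle).toEquiv, G.posUnipotent_eq,
    G.card_US G.closed_pos, G.card_pos, Nat.card_eq_fintype_card (α := F), ← pow_add, ← two_mul] at h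
  rw [← h]
  exact Nat.card_congr (Equiv.subtypeEquivRight fun g => by simp)

end Good

end Tab

end CfsgLib.Chev
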