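import Cfsg.Agent.StCh.ChevSt
import Cfsg.Agent.StCh.Semisimple

/-!
# Steinberg character values at semisimple elements of the Chevalley groups
-/

set_option autoImplicit false

namespace CfsgLib.Chev

open Cfsg.Lie Matrix CfsgLib.BN CfsgLib.StCh
open scoped MatrixGroups

attribute [local instance] torus_normal

namespace Tab

variable {D : ChevalleyDatum}

namespace Good

variable {T : Tab D} (G : T.Good) {F : Type*} [Field F]
include G

theorem closed_levi (J : Finset (G.bnPair F).S) :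
    T.Closed {s | IsPos D s ∧ ¬ G.IsOut F J s} := by
  refine ⟨fun _ h => h.1, fun r hr s hs c hc => ?_⟩
  have hk := (G.comm_keys hr.1 hs.1 hc).1
  refine ⟨hk, fun ho => ?_⟩
  obtain ⟨i, j, -, -, e⟩ := G.avg_comm J hr.1.1 hs.1.1 hc hk.1
  have h := G.avg_pos (J := J) (s := ⟨c.1, hk.1⟩) hk ho
  rw [e, G.avg_eq_zero _ ⟨r, hr.1.1⟩ hr.1 rfl hr.2, G.avg_eq_zero _ ⟨s, hs.1.1⟩ hs.1 rfl hs.2] at h
  simp at h

/-- The radical is transitive on the cells of left reduced elements. -/
theorem radG_transitive [Finite (D.group F)] (J : Finset (G.bnPair F).S) (w : Weyl (G.bnPair F))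
    (hw : LRed (G.bnPair F) (J : Set (G.bnPair F).S) w) (x y : D.group F ⧸ (G.bnPair F).B)
    (hx : cell (G.bnPair F) x = w) (hy : cell (G.bnPair F) y = w) :
    ∃ r ∈ G.radG F J, r • x = y := by
  obtain ⟨L, hL⟩ := G.exists_wrd (F := F) w⁻¹
  have hpos : ∀ i : Fin D.rank, G.sref F i ∈ J → IsPos D (G.full.pw L (G.full.simp' i)).val := by
    intro i hi
    by_contra hn
    have h1 := G.lt_of_neg (F := F) hn
    rw [hL] at h1
    have h2 := (lRed_iff_rRed_inv.1 hw) _ hi
    omega
  set n : D.group F := (G.nwG F L)⁻¹ with hn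
  have hnN : (n : GL D.Idx F) ∈ D.monomialSubgroup F := inv_mem (G.nw_mem_monomial L)
  have hc : cellOf (G.bnPair F) n = w := by rw [hn, cellOf_inv, G.cellOf_nwG, hL, inv_inv]
  have key : ∀ z, cell (G.bnPair F) z = w → ∃ b ∈ G.radG F J, b • QuotientGroup.mk n = z := by
    intro z hz
    obtain ⟨u, hu, rfl⟩ := G.exists_pos_translate hnN z (hz.trans hc.symm)
    rw [G.posUnipotent_eq] at hu
    have hsplit : {r | IsPos D r} = G.outSet F J ∪ {s | IsPos D s ∧ ¬ G.IsOut F J s} := by
      ext s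
      by_cases h : G.IsOut F J s <;> simp [outSet, h]
    obtain ⟨b, hb, a, ha, e⟩ := G.US_split (G.closed_out J) (G.closed_levi J) G.closed_pos hsplit hu
    let b' : D.group F := ⟨b, G.US_le_group _ hb⟩
    let a' : D.group F := ⟨a, G.US_le_group _ ha⟩
    refine ⟨b', hb, ?_⟩
    have hfix : a' • (QuotientGroup.mk n : D.group F ⧸ (G.bnPair F).B) = QuotientGroup.mk n := by
      rw [G.smul_mk_eq_iff, hn, Subgroup.coe_inv, inv_inv]
      refine pos_le_borel G ?_
      rw [G.posUnipotent_eq]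
      refine G.conj_x_act (G.rootAct_nw (F := F) L) (fun s hs => ⟨hs.1.1, ?_⟩) ha
      refine (G.pos_iff_cor (Fin.isLt _)).mpr fun j => ?_
      rw [G.cor_linear (J := List.range D.rank) (G.pw_mem_full L)]
      refine Finset.sum_nonneg fun l _ => ?_
      by_cases hl : G.sref F l ∈ J
      · exact mul_nonneg ((G.pos_iff_cor hs.1.1).mp hs.1 l)
          ((G.pos_iff_cor (Fin.isLt _)).mp (hpos l hl) j)
      · have h0 : T.cor s l = 0 := by
          by_contra h0
          exact hs.2 ⟨l, hl, h0⟩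
        simp [h0]
    rw [show u = b' * a' from Subtype.ext e, mul_smul, hfix]
  obtain ⟨b, hb, rfl⟩ := key x hx
  obtain ⟨b', hb', rfl⟩ := key y hy
  exact ⟨b' * b⁻¹, mul_mem hb' (inv_mem hb), by rw [smul_smul, inv_mul_cancel_right]⟩

theorem st_semisimple [Fintype F] [Fintype (D.group F)] [Fintype (G.bnPair F).S] (p : ℕ)
    [Fact p.Prime] [CharP F p] {g : D.group F} (hg : ¬ p ∣ orderOf g) :
    st (G.bnPair F) g =
        ((p ^ (Nat.card (Subgroup.centralizer ({g} : Set (D.group F)))).factorization p : ℕ) : ℂ) ∨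
      st (G.bnPair F) g =
        -((p ^ (Nat.card (Subgroup.centralizer ({g} : Set (D.group F)))).factorization p : ℕ) : ℂ) := by
  obtain ⟨S, hS⟩ := G.exists_sylow (F := F) p
  refine StCh.st_semisimple G.hasLongest (G.radG F) (fun K u hu => ?_) (fun K => ?_)
    (fun K q hq r hr => G.radG_conj K hq hr) G.radG_transitive ?_ hg
  · exact pos_le_borel G (G.radG_le K hu)
  · exact S.2.to_le (hS ▸ G.radG_le K)
  · intro x hx
    refine CfsgLib.Block.eq_zero_of_defectZero Fact.out
      ⟨_, CfsgLib.StCh.isIrr_st G.hasLongest⟩ ?_ hx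
    rw [Cfsg.charDegree]
    dsimp only
    rw [CfsgLib.StCh.st_one G.hasLongest, G.cellCard_univ]
    simp only [Complex.natCast_re, Nat.floor_natCast]
    rw [← G.sylow_card p]

end Good

end Tab

end CfsgLib.Chev
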