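import Cfsg.Agent.StCh.Reduced
import Cfsg.Agent.BN.Parabolic
import Mathlib.Algebra.BigOperators.Ring.Finset
import Mathlib.Data.Nat.Choose.Sum

/-!
# Fixed cosets of parabolic subgroups
-/

set_option autoImplicit false

namespace CfsgLib.StCh

open Cfsg CfsgLib.BN

attribute [local instance] torus_normal

variable {G : Type*} [Group G] (P : Cfsg.BNPair G)

/-- The parabolic subgroup of a set of simple reflections. -/
def par (J : Set P.S) : Subgroup G := P.parabolic (Subtype.val '' J)

/-- The Bruhat cell of an element. -/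
noncomputable def cellOf (g : G) : Weyl P := (exists_mem_cw P g).choose

/-- The Bruhat cell of a coset of `B`. -/
noncomputable def cell (x : G ⧸ P.B) : Weyl P := cellOf P x.out

/-- The projection to the cosets of a parabolic subgroup. -/
def proj (J : Set P.S) : G ⧸ P.B → G ⧸ par P J := Subgroup.quotientMapOfLE le_sup_left

variable {P}

theorem mem_cellOf (g : G) : g ∈ cw P (cellOf P g) := (exists_mem_cw P g).choose_spec

theorem cellOf_eq {g : G} {w : Weyl P} (h : g ∈ cw P w) : cellOf P g = w :=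
  eq_of_mem P (mem_cellOf g) h

theorem cellOf_mul_right (g : G) {b : G} (hb : b ∈ P.B) : cellOf P (g * b) = cellOf P g :=
  cellOf_eq (mem_cw_right P hb (mem_cellOf g))

theorem cellOf_mul_left (g : G) {b : G} (hb : b ∈ P.B) : cellOf P (b * g) = cellOf P g :=
  cellOf_eq (mem_cw_left P hb (mem_cellOf g))

theorem cellOf_eq_one {g : G} : cellOf P g = 1 ↔ g ∈ P.B :=
  ⟨fun h => (mem_B_iff_cw_one P).2 (h ▸ mem_cellOf g), fun h => cellOf_eq ((mem_B_iff_cw_one P).1 h)⟩

theorem cellOf_inv (g : G) : cellOf P g⁻¹ = (cellOf P g)⁻¹ := cellOf_eq (inv_mem_cw P (mem_cellOf g))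

theorem cell_mk (g : G) : cell P (QuotientGroup.mk g) = cellOf P g := by
  obtain ⟨b, hb⟩ := QuotientGroup.mk_out_eq_mul P.B g
  rw [cell, hb, cellOf_mul_right g b.2]

theorem cell_smul {b : G} (hb : b ∈ P.B) (x : G ⧸ P.B) : cell P (b • x) = cell P x := by
  induction x using QuotientGroup.induction_on with
  | H g => rw [MulAction.Quotient.smul_mk, cell_mk, cell_mk, smul_eq_mul, cellOf_mul_left g hb]

theorem proj_mk (J : Set P.S) (g : G) : proj P J (QuotientGroup.mk g) = QuotientGroup.mk g := rfl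

theorem proj_smul (J : Set P.S) (g : G) (x : G ⧸ P.B) : proj P J (g • x) = g • proj P J x := by
  induction x using QuotientGroup.induction_on with
  | H h => rfl

theorem mem_par_iff {J : Set P.S} {g : G} : g ∈ par P J ↔ WJ P J (cellOf P g) := by
  rw [par, mem_parabolic_iff P (Subtype.coe_image_subset P.S J)]
  constructor
  · rintro ⟨L, hL, hg⟩
    refine ⟨L, fun s hs => ?_, (cellOf_eq hg).symm⟩
    obtain ⟨t, ht, hts⟩ := hL s hs
    rwa [← Subtype.ext hts]
  · rintro ⟨L, hL, e⟩
    exact ⟨L, fun s hs => ⟨s, hL s hs, rfl⟩, e ▸ mem_cellOf g⟩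

theorem par_mono {J K : Set P.S} (h : K ⊆ J) : par P K ≤ par P J :=
  parabolic_mono P (Set.image_mono h)

theorem simple_mem_par {J : Set P.S} {s : P.S} (hs : s ∈ J) : s.1 ∈ par P J :=
  Subgroup.mem_sup_right (Subgroup.subset_closure ⟨s, hs, rfl⟩)

theorem borel_le_par (J : Set P.S) : P.B ≤ par P J := le_sup_left

theorem par_empty : par P (∅ : Set P.S) = P.B := by simp [par, BNPair.parabolic]

theorem par_univ : par P (Set.univ : Set P.S) = ⊤ := by
  rw [par, Subtype.coe_image_univ, parabolic_univ]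

/-- Each coset of a parabolic subgroup contains one reduced coset of `B`. -/
theorem exists_rRed (J : Set P.S) (g : G) :
    ∃ x : G ⧸ P.B, RRed P J (cell P x) ∧ proj P J x = QuotientGroup.mk g := by
  classical
  have hne : ∃ k, ∃ p ∈ par P J, len P (cellOf P (g * p)) = k := ⟨_, 1, one_mem _, rfl⟩
  obtain ⟨p, hp, hk⟩ := Nat.find_spec hne
  refine ⟨QuotientGroup.mk (g * p), fun s hs => ?_, ?_⟩
  · rw [cell_mk]
    rcases len_lt_or (cellOf P (g * p)) s with h | h
    · exact h
    exfalso
    obtain ⟨n, hn⟩ := QuotientGroup.mk_surjective (cellOf P (g * p) * BN.refl P s)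
    have hw : QuotientGroup.mk (n * ⟨s.1, P.subset s.2⟩) = cellOf P (g * p) := by
      rw [QuotientGroup.mk_mul, hn]
      exact mul_refl_refl _ s
    have hm := mem_cellOf (P := P) (g * p)
    rw [← hw, cw_mk] at hm
    obtain ⟨b, hb, c, hc, e⟩ := (mem_cosetOf P).1 hm
    have hy : g * (p * c⁻¹ * s.1⁻¹) = b * n.1 := by
      rw [show g * (p * c⁻¹ * s.1⁻¹) = g * p * c⁻¹ * s.1⁻¹ by group, e]
      simp [Subgroup.coe_mul, mul_assoc]
    have hcw : cellOf P (b * n.1) = cellOf P (g * p) * BN.refl P s :=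
      cellOf_eq (by rw [← hn]; exact mem_cw_left P hb (self_mem_cosetOf P _))
    have := Nat.find_min' hne ⟨p * c⁻¹ * s.1⁻¹,
      mul_mem (mul_mem hp (inv_mem (borel_le_par J hc))) (inv_mem (simple_mem_par hs)), rfl⟩
    rw [hy, hcw] at this
    omega
  · rw [proj_mk, QuotientGroup.eq, mul_inv_rev, mul_assoc, inv_mul_cancel, mul_one]
    exact inv_mem hp

theorem rRed_proj_inj {J : Set P.S} {x y : G ⧸ P.B} (hx : RRed P J (cell P x))
    (hy : RRed P J (cell P y)) (h : proj P J x = proj P J y) : x = y := by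
  induction x using QuotientGroup.induction_on with
  | H g =>
    induction y using QuotientGroup.induction_on with
    | H g' =>
      rw [cell_mk] at hx hy
      rw [proj_mk, proj_mk, QuotientGroup.eq] at h
      rw [QuotientGroup.eq, ← cellOf_eq_one (P := P)]
      have hu := mem_par_iff.1 h
      have hc := cw_mul_min hx hu (mem_cellOf g) (mem_cellOf (g⁻¹ * g'))
      rw [mul_inv_cancel_left] at hc
      exact hx.unique hy hu (cellOf_eq hc)

theorem mem_par_out {J K : Set P.S} (hK : K ⊆ J) (g : G) :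
    (QuotientGroup.mk g : G ⧸ par P K).out ∈ par P J ↔ g ∈ par P J := by
  obtain ⟨k, hk⟩ := QuotientGroup.mk_out_eq_mul (par P K) g
  rw [hk, Subgroup.mul_mem_cancel_right _ (par_mono hK k.2)]

theorem proj_out_mem {J K : Set P.S} (hK : K ⊆ J) (x : G ⧸ P.B) :
    (proj P K x).out ∈ par P J ↔ WJ P J (cell P x) := by
  induction x using QuotientGroup.induction_on with
  | H g => rw [proj_mk, mem_par_out hK, cell_mk, mem_par_iff]

/-- The alternating sum of an incidence. -/
theorem alt_sum {X ι : Type*} [Fintype X] [DecidableEq ι] (J : Finset ι) (R : X → ι → Prop) :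
    ∑ K ∈ J.powerset, (-1 : ℤ) ^ K.card * (Nat.card {x // ∀ s ∈ K, R x s} : ℤ) =
      (Nat.card {x // ∀ s ∈ J, ¬ R x s} : ℤ) := by
  classical
  simp only [Nat.card_eq_fintype_card, Fintype.card_subtype, Finset.card_filter,
    Nat.cast_sum, Finset.mul_sum]
  rw [Finset.sum_comm]
  refine Finset.sum_congr rfl fun x _ => ?_
  rw [show (∑ K ∈ J.powerset, (-1 : ℤ) ^ K.card * ((if ∀ s ∈ K, R x s then 1 else 0 : ℕ) : ℤ)) =
      ∑ K ∈ (J.filter (R x)).powerset, (-1 : ℤ) ^ K.card from ?_]
  · rw [Finset.sum_powerset_neg_one_pow_card]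
    simp only [Finset.filter_eq_empty_iff]
    split_ifs <;> rfl
  · rw [← Finset.sum_filter_add_sum_filter_not J.powerset (fun K => ∀ s ∈ K, R x s)]
    rw [Finset.sum_eq_zero (s := J.powerset.filter fun K => ¬ ∀ s ∈ K, R x s)
      (fun K hK => by rw [if_neg (Finset.mem_filter.1 hK).2]; simp), add_zero]
    refine Finset.sum_congr ?_ (fun K hK => ?_)
    · ext K
      simp only [Finset.mem_filter, Finset.mem_powerset, Finset.subset_iff]
      exact ⟨fun h s hs => ⟨h.1 hs, h.2 s hs⟩, fun h => ⟨fun s hs => (h hs).1, fun s hs => (h hs).2⟩⟩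
    · rw [if_pos fun s hs => (Finset.mem_filter.1 (Finset.mem_powerset.1 hK hs)).2]
      simp

theorem not_len_lt {w : Weyl P} {s : P.S} :
    ¬ len P w < len P (w * BN.refl P s) ↔ len P (w * BN.refl P s) < len P w := by
  rcases len_lt_or w s with h | h <;> omega

variable (P)

/-- The number of cosets of `P_K` inside `P_J` fixed by `g`. -/
noncomputable def fixIn (J K : Set P.S) (g : G) : ℕ :=
  Nat.card {y : G ⧸ par P K // g • y = y ∧ y.out ∈ par P J}

/-- The alternating sum over the parabolic subgroups inside `P_J`. -/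
noncomputable def stJ (J : Finset P.S) (g : G) : ℤ :=
  ∑ K ∈ J.powerset, (-1) ^ K.card * (fixIn P (J : Set P.S) (K : Set P.S) g : ℤ)

variable {P}

theorem fixIn_borel {J K : Set P.S} (hK : K ⊆ J) {b : G} (hb : b ∈ P.B) :
    fixIn P J K b = Nat.card {x : G ⧸ P.B //
      RRed P K (cell P x) ∧ WJ P J (cell P x) ∧ b • x = x} := by
  refine (Nat.card_congr (Equiv.ofBijective
    (fun x => ⟨proj P K x.1, by rw [← proj_smul, x.2.2.2], (proj_out_mem hK _).2 x.2.2.1⟩)
    ⟨?_, ?_⟩)).symm
  · intro x y h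
    exact Subtype.ext (rRed_proj_inj x.2.1 y.2.1 (congrArg Subtype.val h))
  · rintro ⟨y, hy, hyJ⟩
    induction y using QuotientGroup.induction_on with
    | H g =>
      obtain ⟨x, hx, hxg⟩ := exists_rRed K g
      have hfix : b • x = x := rRed_proj_inj (by rwa [cell_smul hb]) hx (by rw [proj_smul, hxg, hy])
      exact ⟨⟨x, hx, (proj_out_mem hK x).1 (hxg ▸ hyJ), hfix⟩, Subtype.ext hxg⟩

theorem stJ_borel [Finite G] (J : Finset P.S) {b : G} (hb : b ∈ P.B) :
    stJ P J b = (Nat.card {x : G ⧸ P.B // (∀ s ∈ J, len P (cell P x * BN.refl P s) < len P (cell P x)) ∧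
      WJ P (J : Set P.S) (cell P x) ∧ b • x = x} : ℤ) := by
  classical
  let X := {x : G ⧸ P.B // WJ P (J : Set P.S) (cell P x) ∧ b • x = x}
  haveI : Fintype X := Fintype.ofFinite X
  have key := alt_sum J fun (x : X) s => len P (cell P x.1) < len P (cell P x.1 * BN.refl P s)
  simp only [not_len_lt] at key
  have e : ∀ Q : (G ⧸ P.B) → Prop,
      Nat.card {x : X // Q x.1} =
        Nat.card {x : G ⧸ P.B // Q x ∧ WJ P (J : Set P.S) (cell P x) ∧ b • x = x} := fun Q =>
    Nat.card_congr ((Equiv.subtypeSubtypeEquivSubtypeInter _ Q).trans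
      (Equiv.subtypeEquivRight fun x => and_comm))
  rw [← e fun x => ∀ s ∈ J, len P (cell P x * BN.refl P s) < len P (cell P x), ← key, stJ]
  refine Finset.sum_congr rfl fun K hK => ?_
  rw [fixIn_borel (Finset.coe_subset.2 (Finset.mem_powerset.1 hK)) hb,
    ← e fun x => RRed P (K : Set P.S) (cell P x)]
  rfl

theorem stJ_conj [Finite G] (J : Finset P.S) {q : G} (hq : q ∈ par P (J : Set P.S)) (g : G) :
    stJ P J (q * g * q⁻¹) = stJ P J g := by
  refine Finset.sum_congr rfl fun K hK => ?_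
  have hKJ : (K : Set P.S) ⊆ J := Finset.coe_subset.2 (Finset.mem_powerset.1 hK)
  congr 2
  refine (Nat.card_congr ((MulAction.toPerm q).subtypeEquiv fun y => ?_)).symm
  induction y using QuotientGroup.induction_on with
  | H a =>
    simp only [MulAction.toPerm_apply, MulAction.Quotient.smul_mk, smul_eq_mul, mem_par_out hKJ,
      QuotientGroup.eq]
    refine and_congr ?_ (Subgroup.mul_mem_cancel_left _ hq).symm
    rw [show (q * g * q⁻¹ * (q * a))⁻¹ * (q * a) = (g * a)⁻¹ * a by group]

end CfsgLib.StCh
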