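import Cfsg.Agent.StCh.Cells
import Cfsg.Agent.StCh.Character
import Mathlib.GroupTheory.Sylow

/-!
# Steinberg's count of unipotent elements
-/

set_option autoImplicit false

namespace CfsgLib.StCh

open Cfsg CfsgLib.BN

attribute [local instance] torus_normal

variable {G : Type*} [Group G] [Finite G] {P : Cfsg.BNPair G} {wl : Finset P.S → Weyl P}

/-- The elements of `p`-power order of a subgroup. -/
noncomputable def pCount (p : ℕ) (H : Subgroup G) : ℕ :=
  Nat.card {g : G // g ∈ H ∧ ∃ k : ℕ, orderOf g = p ^ k}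

theorem pCount_conj (p : ℕ) (H : Subgroup G) (a : G) :
    Nat.card {g : G // a⁻¹ * g * a ∈ H ∧ ∃ k : ℕ, orderOf g = p ^ k} = pCount p H :=
  Nat.card_congr ((MulAut.conj a⁻¹).toEquiv.subtypeEquiv fun g => by
    rw [show (MulAut.conj a⁻¹).toEquiv g = MulAut.conj a⁻¹ g from rfl, MulEquiv.orderOf_eq,
      MulAut.conj_apply, inv_inv])

/-- Every element of `p`-power order of a parabolic subgroup is conjugate there into a given Sylow subgroup inside `B`. -/
theorem exists_conj_mem {p : ℕ} [Fact p.Prime] (S : Sylow p G) (hS : (S : Subgroup G) ≤ P.B)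
    (K : Set P.S) {u : G} (hu : u ∈ par P K) (hp : ∃ k : ℕ, orderOf u = p ^ k) :
    ∃ q ∈ par P K, q * u * q⁻¹ ∈ (S : Subgroup G) := by
  have hle : (S : Subgroup G) ≤ par P K := le_trans hS (borel_le_par K)
  obtain ⟨k, hk⟩ := hp
  have hZ : IsPGroup p (Subgroup.zpowers (⟨u, hu⟩ : par P K)) :=
    IsPGroup.of_card (n := k) (by rw [Nat.card_zpowers, ← orderOf_submonoid]; exact hk)
  obtain ⟨Q, hQ⟩ := hZ.exists_le_sylow
  obtain ⟨a, ha⟩ := MulAction.exists_smul_eq (par P K) Q (S.subtype hle)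
  refine ⟨a.1, a.2, ?_⟩
  have hm : MulAut.conj a (⟨u, hu⟩ : par P K) ∈ ((a • Q : Sylow p (par P K)) : Subgroup (par P K)) := by
    rw [Sylow.coe_subgroup_smul]
    exact Subgroup.smul_mem_pointwise_smul _ _ _ (hQ (Subgroup.mem_zpowers _))
  rw [ha, Sylow.coe_subtype, Subgroup.mem_subgroupOf] at hm
  simpa using hm

theorem pCount_par_eq (hwl : HasLongest P wl) {p : ℕ} [Fact p.Prime] (S : Sylow p G)
    (hS : (S : Subgroup G) ≤ P.B) (R : Finset P.S → Subgroup G)
    (hRS : ∀ J, R J ≤ (S : Subgroup G))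
    (hRn : ∀ J : Finset P.S, ∀ q ∈ par P (J : Set P.S), ∀ r ∈ R J, q * r * q⁻¹ ∈ R J)
    (hfix : ∀ J, ∀ u ∈ (S : Subgroup G), ∀ x : G ⧸ P.B, cell P x = wl J → (u • x = x ↔ u ∈ R J))
    (htrans : ∀ J, ∀ x y : G ⧸ P.B, cell P x = wl J → cell P y = wl J →
      ∃ u ∈ (S : Subgroup G), u • x = y)
    (J : Finset P.S) :
    pCount p (par P (J : Set P.S)) = Nat.card S * cellCard P wl J := by
  classical
  induction J using Finset.strongInduction with
  | _ J ih =>
  haveI : Fintype G := Fintype.ofFinite G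
  -- the orbit count
  have horb : Nat.card (R J) * cellCard P wl J = Nat.card S := by
    obtain ⟨g, hg⟩ := cw_nonempty P (wl J)
    set x : G ⧸ P.B := QuotientGroup.mk g
    have hx : cell P x = wl J := by rw [cell_mk, cellOf_eq hg]
    have hcard := MulAction.index_stabilizer (S : Subgroup G) x
    have hst : MulAction.stabilizer (S : Subgroup G) x = (R J).subgroupOf (S : Subgroup G) := by
      ext u
      rw [MulAction.mem_stabilizer_iff, Subgroup.mem_subgroupOf, ← hfix J u.1 u.2 x hx]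
      rfl
    have horbit : MulAction.orbit (S : Subgroup G) x = {y | cell P y = wl J} := by
      ext y
      constructor
      · rintro ⟨u, rfl⟩
        change cell P ((u : G) • x) = wl J
        rw [cell_smul (hS u.2), hx]
      · intro hy
        obtain ⟨u, hu, e⟩ := htrans J x y hx hy
        exact ⟨⟨u, hu⟩, e⟩
    rw [horbit, hst, ← Nat.card_coe_set_eq] at hcard
    rw [← Subgroup.card_mul_index ((R J).subgroupOf (S : Subgroup G)), hcard,
      Nat.card_congr (Subgroup.subgroupOfEquivOfLe (hRS J)).toEquiv]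
    rfl
  have hpow : ∀ r ∈ (S : Subgroup G), ∃ k : ℕ, orderOf r = p ^ k := fun r hr => by
    obtain ⟨k, hk⟩ := IsPGroup.iff_orderOf.1 S.2 ⟨r, hr⟩
    exact ⟨k, by rwa [← Subgroup.orderOf_coe] at hk⟩
  -- the sum of the Steinberg values
  let T : Finset G := Finset.univ.filter fun g =>
    g ∈ par P (J : Set P.S) ∧ ∃ k : ℕ, orderOf g = p ^ k
  have hsum1 : ∑ u ∈ T, stJ P J u = (Nat.card S : ℤ) := by
    have hval : ∀ u ∈ T, stJ P J u = if u ∈ R J then (cellCard P wl J : ℤ) else 0 := by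
      intro u hu
      obtain ⟨hu1, hu2⟩ := (Finset.mem_filter.1 hu).2
      obtain ⟨q, hq, hqu⟩ := exists_conj_mem S hS (J : Set P.S) hu1 hu2
      have hiff : q * u * q⁻¹ ∈ R J ↔ u ∈ R J := by
        refine ⟨fun h => ?_, fun h => hRn J q hq u h⟩
        have := hRn J q⁻¹ (inv_mem hq) _ h
        rwa [inv_inv, show q⁻¹ * (q * u * q⁻¹) * q = u by group] at this
      rw [← stJ_conj J hq u, stJ_eq hwl J (hS hqu)]
      split_ifs with h
      · rw [cellCard]
        congr 1
        refine Nat.card_congr (Equiv.subtypeEquivRight fun x => ?_)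
        exact ⟨And.left, fun hx => ⟨hx, (hfix J _ hqu x hx).2 (hiff.2 h)⟩⟩
      · haveI : IsEmpty {x : G ⧸ P.B // cell P x = wl J ∧ (q * u * q⁻¹) • x = x} :=
          ⟨fun x => h (hiff.1 ((hfix J _ hqu x.1 x.2.1).1 x.2.2))⟩
        rw [Nat.card_of_isEmpty, Nat.cast_zero]
    rw [Finset.sum_congr rfl hval, ← Finset.sum_filter, Finset.sum_const, nsmul_eq_mul, ← horb,
      Nat.cast_mul]
    congr 1
    have : T.filter (· ∈ R J) = Finset.univ.filter (· ∈ R J) := by
      ext g
      simp only [T, Finset.mem_filter, Finset.mem_univ, true_and, and_iff_right_iff_imp]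
      exact fun hg => ⟨borel_le_par _ (hS (hRS J hg)), hpow g (hRS J hg)⟩
    rw [this]
    norm_cast
    rw [Nat.card_eq_fintype_card, ← Fintype.card_subtype]
  -- double counting
  have hsum2 : ∀ K ∈ J.powerset,
      ∑ u ∈ T, (fixIn P (J : Set P.S) (K : Set P.S) u : ℤ) =
        ((fixIn P (J : Set P.S) (K : Set P.S) 1 * pCount p (par P (K : Set P.S)) : ℕ) : ℤ) := by
    intro K hK
    have hKJ : (K : Set P.S) ⊆ J := Finset.coe_subset.2 (Finset.mem_powerset.1 hK)
    rw [← Nat.cast_sum]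
    congr 1
    let Y := {y : G ⧸ par P (K : Set P.S) // y.out ∈ par P (J : Set P.S)}
    haveI : Fintype Y := Fintype.ofFinite Y
    have h1 : ∀ u, fixIn P (J : Set P.S) (K : Set P.S) u =
        (Finset.univ.filter fun y : Y => u • y.1 = y.1).card := fun u => by
      rw [fixIn, ← Nat.card_eq_finsetCard]
      exact Nat.card_congr ((Equiv.subtypeEquivRight fun y => and_comm).trans
        ((Equiv.subtypeSubtypeEquivSubtypeInter _ _).symm.trans
          (Equiv.subtypeEquivRight fun y => by simp)))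
    simp only [h1, one_smul, Finset.card_filter, if_true]
    rw [Finset.sum_comm, Finset.sum_mul]
    refine Finset.sum_congr rfl fun y _ => ?_
    rw [one_mul, ← Finset.card_filter, ← pCount_conj p (par P (K : Set P.S)) y.1.out,
      ← Nat.card_eq_finsetCard]
    refine Nat.card_congr (Equiv.subtypeEquivRight fun u => ?_)
    have hiff : u • y.1 = y.1 ↔ y.1.out⁻¹ * u * y.1.out ∈ par P (K : Set P.S) := by
      conv_lhs => rw [← QuotientGroup.out_eq' y.1]
      rw [MulAction.Quotient.smul_mk, eq_comm, QuotientGroup.eq, smul_eq_mul, mul_assoc]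
    simp only [T, Finset.mem_filter, Finset.mem_univ, true_and, hiff]
    constructor
    · rintro ⟨⟨-, h2⟩, h3⟩
      exact ⟨h3, h2⟩
    · rintro ⟨h3, h2⟩
      refine ⟨⟨?_, h2⟩, h3⟩
      have := mul_mem (mul_mem y.2 (par_mono hKJ h3)) (inv_mem y.2)
      rwa [show y.1.out * (y.1.out⁻¹ * u * y.1.out) * y.1.out⁻¹ = u by group] at this
  have hmain : ∑ K ∈ J.powerset, (-1 : ℤ) ^ K.card *
      ((fixIn P (J : Set P.S) (K : Set P.S) 1 * pCount p (par P (K : Set P.S)) : ℕ) : ℤ) =
      (Nat.card S : ℤ) := by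
    rw [← hsum1]
    simp only [stJ]
    rw [Finset.sum_comm]
    refine Finset.sum_congr rfl fun K hK => ?_
    rw [← Finset.mul_sum, hsum2 K hK]
  have hid := congrArg (fun z : ℤ => (Nat.card S : ℤ) * z) (sum_index_mul_cellCard hwl J)
  simp only [mul_one, Finset.mul_sum] at hid
  have hJm : J ∈ J.powerset := Finset.mem_powerset_self J
  rw [← Finset.add_sum_erase _ _ hJm] at hmain hid
  have hrest : ∀ K ∈ J.powerset.erase J, (Nat.card S : ℤ) * ((-1 : ℤ) ^ K.card *
      ((fixIn P (J : Set P.S) (K : Set P.S) 1 * cellCard P wl K : ℕ) : ℤ)) =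
      (-1 : ℤ) ^ K.card *
      ((fixIn P (J : Set P.S) (K : Set P.S) 1 * pCount p (par P (K : Set P.S)) : ℕ) : ℤ) := by
    intro K hK
    rw [ih K (Finset.ssubset_iff_subset_ne.2
      ⟨Finset.mem_powerset.1 (Finset.mem_of_mem_erase hK), Finset.ne_of_mem_erase hK⟩)]
    push_cast
    ring
  rw [Finset.sum_congr rfl hrest] at hid
  have hpos : fixIn P (J : Set P.S) (J : Set P.S) 1 = 1 := by
    rw [fixIn, Nat.card_eq_one_iff_exists]
    refine ⟨⟨QuotientGroup.mk 1, one_smul _ _, (mem_par_out le_rfl 1).2 (one_mem _)⟩, fun y => ?_⟩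
    refine Subtype.ext ?_
    rw [← QuotientGroup.out_eq' y.1, QuotientGroup.eq, mul_one]
    exact inv_mem y.2.2
  rw [hpos, one_mul] at hmain hid
  have h3 : (-1 : ℤ) ^ J.card * (pCount p (par P (J : Set P.S)) : ℤ) =
      (Nat.card S : ℤ) * ((-1 : ℤ) ^ J.card * (cellCard P wl J : ℤ)) := by linarith
  have hne : (-1 : ℤ) ^ J.card ≠ 0 := pow_ne_zero _ (by norm_num)
  have h4 : (pCount p (par P (J : Set P.S)) : ℤ) = ((Nat.card S * cellCard P wl J : ℕ) : ℤ) := by
    refine mul_left_cancel₀ hne ?_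
    rw [h3]; push_cast; ring
  exact_mod_cast h4

end CfsgLib.StCh
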