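import Cfsg.Agent.BN.Coxeter

/-!
# Reduced elements of the Weyl group of a Tits system
-/

set_option autoImplicit false

namespace CfsgLib.StCh

open Cfsg CfsgLib.BN

attribute [local instance] torus_normal

variable {G : Type*} [Group G] (P : Cfsg.BNPair G)

/-- Membership of `W_J`. -/
def WJ (J : Set P.S) (w : Weyl P) : Prop := ∃ L : List P.S, (∀ s ∈ L, s ∈ J) ∧ wprod P L = w

/-- No descent from `J` on the right. -/
def RRed (J : Set P.S) (w : Weyl P) : Prop := ∀ s ∈ J, len P w < len P (w * refl P s)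

/-- No descent from `J` on the left. -/
def LRed (J : Set P.S) (w : Weyl P) : Prop := ∀ s ∈ J, len P w < len P (refl P s * w)

variable {P}

theorem len_mul_refl (w : Weyl P) (s : P.S) : len P (w * refl P s) = len P (refl P s * w⁻¹) := by
  rw [← len_inv P (w * refl P s), mul_inv_rev, refl_inv]

theorem len_mul_refl_cases (w : Weyl P) (s : P.S) :
    len P (w * refl P s) = len P w + 1 ∨ len P (w * refl P s) + 1 = len P w := by
  rw [len_mul_refl, ← len_inv P w]
  exact len_refl_mul_cases P s w⁻¹

theorem mul_refl_refl (w : Weyl P) (s : P.S) : w * refl P s * refl P s = w := by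
  rw [mul_assoc, refl_sq, mul_one]

theorem len_lt_or (w : Weyl P) (s : P.S) :
    len P w < len P (w * refl P s) ∨ len P (w * refl P s) < len P w := by
  rcases len_mul_refl_cases w s with h | h <;> omega

theorem lRed_iff_rRed_inv {J : Set P.S} {w : Weyl P} : LRed P J w ↔ RRed P J w⁻¹ := by
  refine forall₂_congr fun s _ => ?_
  rw [len_inv, len_mul_refl, inv_inv]

theorem rRed_mono {J K : Set P.S} (h : K ⊆ J) {w : Weyl P} (hw : RRed P J w) : RRed P K w :=
  fun s hs => hw s (h hs)

theorem wJ_one (J : Set P.S) : WJ P J 1 := ⟨[], by simp, rfl⟩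

theorem wJ_refl {J : Set P.S} {s : P.S} (hs : s ∈ J) : WJ P J (refl P s) :=
  ⟨[s], by simpa using hs, by simp [wprod]⟩

theorem wJ_mul {J : Set P.S} {u v : Weyl P} (hu : WJ P J u) (hv : WJ P J v) : WJ P J (u * v) := by
  obtain ⟨L, hL, rfl⟩ := hu
  obtain ⟨M, hM, rfl⟩ := hv
  refine ⟨L ++ M, fun s hs => ?_, wprod_append P L M⟩
  rcases List.mem_append.1 hs with h | h
  exacts [hL s h, hM s h]

theorem wJ_inv {J : Set P.S} {u : Weyl P} (hu : WJ P J u) : WJ P J u⁻¹ := by
  obtain ⟨L, hL, rfl⟩ := hu
  exact ⟨L.reverse, fun s hs => hL s (List.mem_reverse.1 hs), wprod_reverse P L⟩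

theorem wJ_mono {J K : Set P.S} (h : K ⊆ J) {u : Weyl P} (hu : WJ P K u) : WJ P J u := by
  obtain ⟨L, hL, rfl⟩ := hu
  exact ⟨L, fun s hs => h (hL s hs), rfl⟩

theorem exists_reduced_wJ {J : Set P.S} {u : Weyl P} (hu : WJ P J u) :
    ∃ R : List P.S, (∀ s ∈ R, s ∈ J) ∧ wprod P R = u ∧ len P u = R.length := by
  obtain ⟨L, hL, rfl⟩ := hu
  obtain ⟨R, hR, e, hl⟩ := exists_reduced_mem P (J := Subtype.val '' J) L
    (fun s hs => ⟨s, hL s hs, rfl⟩)
  refine ⟨R, fun s hs => ?_, e, e ▸ hl⟩
  obtain ⟨t, ht, hts⟩ := hR s hs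
  rwa [← Subtype.ext hts]

/-- Exchange on the right. -/
theorem exchange_right (L : List P.S) (s : P.S) (hL : len P (wprod P L) = L.length)
    (h : len P (wprod P L * refl P s) < L.length) :
    ∃ i < L.length, wprod P L * refl P s = wprod P (L.eraseIdx i) := by
  have hr : len P (wprod P L.reverse) = L.reverse.length := by
    rw [wprod_reverse, len_inv, hL, List.length_reverse]
  obtain ⟨i, hi, e⟩ := exchange P s L.reverse hr (by
    rw [wprod_reverse, ← len_mul_refl, List.length_reverse]; exact h)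
  rw [List.length_reverse] at hi
  refine ⟨L.length - 1 - i, by omega, inv_injective ?_⟩
  rw [← wprod_reverse, mul_inv_rev, refl_inv, ← wprod_reverse, e]
  congr 1
  refine List.ext_getElem? fun k => ?_
  simp only [List.getElem?_eraseIdx, List.getElem?_reverse', List.length_eraseIdx]
  grind

/-- The element is of minimal length in its coset, with additive lengths. -/
def Min (J : Set P.S) (w : Weyl P) : Prop := ∀ u, WJ P J u → len P (w * u) = len P w + len P u

theorem exists_min (J : Set P.S) (w : Weyl P) :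
    ∃ w₀ u : Weyl P, WJ P J u ∧ w = w₀ * u ∧ Min J w₀ := by
  classical
  have hne : ∃ k, ∃ u, WJ P J u ∧ len P (w * u) = k := ⟨_, 1, wJ_one J, rfl⟩
  obtain ⟨u₀, hu₀, hk⟩ := Nat.find_spec hne
  refine ⟨w * u₀, u₀⁻¹, wJ_inv hu₀, by group, ?_⟩
  have hmin : ∀ u, WJ P J u → len P (w * u₀) ≤ len P (w * u₀ * u) := fun u hu => by
    rw [hk, mul_assoc]
    exact Nat.find_min' hne ⟨_, wJ_mul hu₀ hu, rfl⟩
  intro u hu
  obtain ⟨R, hR, rfl, hl⟩ := exists_reduced_wJ hu
  rw [hl]
  clear hu
  induction R using List.reverseRecOn with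
  | nil => simp [wprod_nil]
  | append_singleton R t ih =>
    have hR' : ∀ s ∈ R, s ∈ J := fun s hs => hR s (by simp [hs])
    have hlR : len P (wprod P R) = R.length := by
      refine le_antisymm (len_le P R) ?_
      rw [wprod_append, wprod_cons, wprod_nil, mul_one, List.length_append,
        List.length_singleton] at hl
      rcases len_mul_refl_cases (wprod P R) t with h | h <;> omega
    have ih' := ih hR' hlR
    obtain ⟨L₀, hL₀, hl₀⟩ := exists_reduced P (w * u₀)
    rw [wprod_append, wprod_cons, wprod_nil, mul_one, ← mul_assoc, List.length_append,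
      List.length_singleton]
    rcases len_mul_refl_cases (w * u₀ * wprod P R) t with h | h
    · omega
    exfalso
    obtain ⟨i, hi, e⟩ := exchange_right (L₀ ++ R) t
      (by rw [wprod_append, hL₀, ih', List.length_append, hl₀])
      (by rw [wprod_append, hL₀, List.length_append]; omega)
    rw [wprod_append, hL₀] at e
    rw [List.length_append] at hi
    by_cases hiL : i < L₀.length
    · rw [List.eraseIdx_append_of_lt_length hiL, wprod_append] at e
      have h1 := hmin (wprod P R * refl P t * (wprod P R)⁻¹)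
        (wJ_mul (wJ_mul ⟨R, hR', rfl⟩ (wJ_refl (hR t (by simp)))) (wJ_inv ⟨R, hR', rfl⟩))
      rw [show w * u₀ * (wprod P R * refl P t * (wprod P R)⁻¹) =
        w * u₀ * wprod P R * refl P t * (wprod P R)⁻¹ by group, e, mul_inv_cancel_right] at h1
      have h2 := len_le P (L₀.eraseIdx i)
      rw [List.length_eraseIdx_of_lt hiL] at h2
      omega
    · rw [List.eraseIdx_append_of_length_le (not_lt.1 hiL), wprod_append, hL₀, mul_assoc,
        mul_left_cancel_iff] at e
      have h2 := len_le P (R.eraseIdx (i - L₀.length))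
      rw [List.length_eraseIdx_of_lt (by omega)] at h2
      rw [wprod_append, wprod_cons, wprod_nil, mul_one, e, List.length_append,
        List.length_singleton] at hl
      omega

theorem exists_last {J : Set P.S} {u : Weyl P} (hu : WJ P J u) (hne : u ≠ 1) :
    ∃ s ∈ J, ∃ v, WJ P J v ∧ u = v * refl P s ∧ len P u = len P v + 1 := by
  obtain ⟨R, hR, rfl, hl⟩ := exists_reduced_wJ hu
  rcases List.eq_nil_or_concat R with rfl | ⟨R', t, rfl⟩
  · exact absurd rfl hne
  rw [List.concat_eq_append] at hl hR ⊢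
  rw [wprod_append, wprod_cons, wprod_nil, mul_one, List.length_append, List.length_singleton] at hl
  refine ⟨t, hR t (by simp), wprod P R', ⟨R', fun s hs => hR s (by simp [hs]), rfl⟩,
    by rw [wprod_append, wprod_cons, wprod_nil, mul_one], ?_⟩
  have h1 := len_le P R'
  rw [wprod_append, wprod_cons, wprod_nil, mul_one]
  rcases len_mul_refl_cases (wprod P R') t with h | h <;> omega

theorem Min.rRed {J : Set P.S} {w : Weyl P} (h : Min J w) : RRed P J w := fun s hs => by
  rw [h _ (wJ_refl hs)]
  have : len P (refl P s) ≠ 0 := fun e => refl_ne_one P s (eq_one_of_len P e)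
  omega

theorem RRed.min {J : Set P.S} {w : Weyl P} (h : RRed P J w) : Min J w := by
  obtain ⟨w₀, u, hu, rfl, hmin⟩ := exists_min J w
  rcases eq_or_ne u 1 with rfl | hne
  · rwa [mul_one]
  obtain ⟨s, hs, v, hv, rfl, hl⟩ := exists_last hu hne
  have h1 := h s hs
  rw [← mul_assoc, mul_refl_refl, mul_assoc w₀, hmin _ hu, hmin _ hv] at h1
  omega

/-- Reduced elements of a coset are unique. -/
theorem RRed.unique {J : Set P.S} {w w' u : Weyl P} (h : RRed P J w) (h' : RRed P J w')
    (hu : WJ P J u) (e : w' = w * u) : u = 1 := by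
  have h1 := h.min u hu
  have h2 := h'.min u⁻¹ (wJ_inv hu)
  rw [e, mul_inv_cancel_right, h1, len_inv] at h2
  exact eq_one_of_len P (by omega)

theorem rRed_eq_one {J : Set P.S} {w : Weyl P} (hw : WJ P J w) (h : RRed P J w) : w = 1 := by
  have h1 : RRed P J (1 : Weyl P) := fun s _ => by
    rw [len_one, one_mul]
    exact Nat.pos_of_ne_zero fun e => refl_ne_one P s (eq_one_of_len P e)
  exact h1.unique h hw (one_mul w).symm

/-- Deodhar's lemma. -/
theorem deodhar {K : Set P.S} {w : Weyl P} (h : RRed P K w) (s : P.S) :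
    RRed P K (refl P s * w) ∨ ∃ k ∈ K, refl P s * w = w * refl P k := by
  by_cases hc : RRed P K (refl P s * w)
  · exact Or.inl hc
  obtain ⟨k, hk, hlt⟩ : ∃ k ∈ K, ¬ len P (refl P s * w) < len P (refl P s * w * refl P k) := by
    simpa [RRed] using hc
  have hlt' := (len_lt_or (refl P s * w) k).resolve_left hlt
  refine Or.inr ⟨k, hk, ?_⟩
  have hwk := h k hk
  rcases len_refl_mul_cases P s w with hs | hs
  · obtain ⟨L, hL, hl⟩ := exists_reduced P w
    obtain ⟨i, hi, e⟩ := exchange_right (s :: L) k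
      (by rw [wprod_cons, hL, List.length_cons]; omega)
      (by rw [wprod_cons, hL, List.length_cons]; omega)
    rw [wprod_cons, hL] at e
    rcases i with _ | i
    · rw [List.eraseIdx_cons_zero, hL] at e
      conv_rhs => rw [← e]
      rw [mul_refl_refl]
    · exfalso
      rw [List.eraseIdx_cons_succ, wprod_cons, mul_assoc, mul_left_cancel_iff] at e
      simp only [List.length_cons, Nat.succ_lt_succ_iff] at hi
      have h2 := len_le P (L.eraseIdx i)
      rw [← e, List.length_eraseIdx_of_lt hi] at h2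
      omega
  · exfalso
    have h3 := len_refl_mul_le P s (refl P s * w * refl P k)
    rw [mul_assoc (refl P s), ← mul_assoc (refl P s) (refl P s), refl_sq, one_mul, ← mul_assoc] at h3
    omega

/-- Double cosets have unique reduced elements. -/
theorem double_unique {J K : Set P.S} {w w' a b : Weyl P} (hwJ : LRed P J w) (hwK : RRed P K w)
    (hwJ' : LRed P J w') (hwK' : RRed P K w') (ha : WJ P J a) (hb : WJ P K b)
    (e : w' = a * w * b) : w' = w := by
  obtain ⟨L, hL, rfl⟩ := ha
  have claim : ∀ L : List P.S, (∀ s ∈ L, s ∈ J) → ∃ a'' b' : Weyl P, WJ P J a'' ∧ WJ P K b' ∧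
      wprod P L * w = a'' * w * b' ∧ RRed P K (a'' * w) := by
    intro L
    induction L with
    | nil =>
      intro _
      exact ⟨1, 1, wJ_one J, wJ_one K, by rw [wprod_nil, mul_one], by rwa [one_mul]⟩
    | cons t L ih =>
      intro hL
      obtain ⟨a'', b', ha'', hb', e, hr⟩ := ih fun s hs => hL s (List.mem_cons_of_mem _ hs)
      rcases deodhar hr t with hr' | ⟨k, hk, hk'⟩
      · refine ⟨refl P t * a'', b', wJ_mul (wJ_refl (hL t (List.mem_cons_self ..))) ha'', hb',
          ?_, by rwa [mul_assoc]⟩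
        rw [wprod_cons, mul_assoc, e]; group
      · refine ⟨a'', refl P k * b', ha'', wJ_mul (wJ_refl hk) hb', ?_, hr⟩
        rw [wprod_cons, mul_assoc, e, ← mul_assoc (refl P t), hk', mul_assoc]
  obtain ⟨a'', b', ha'', hb', e', hr⟩ := claim L hL
  rw [e', mul_assoc] at e
  have hb1 : b' * b = 1 := hr.unique hwK' (wJ_mul hb' hb) e
  rw [hb1, mul_one] at e
  subst e
  have h1 : RRed P J w⁻¹ := lRed_iff_rRed_inv.1 hwJ
  have h2 : RRed P J (a'' * w)⁻¹ := lRed_iff_rRed_inv.1 hwJ'
  have := h1.unique h2 (wJ_inv ha'') (by group)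
  rw [inv_eq_one] at this
  rw [this, one_mul]

/-- Products of cells with additive lengths. -/
theorem cw_mul_refl {x y : G} {w : Weyl P} {s : P.S} (h : len P w ≤ len P (w * refl P s))
    (hx : x ∈ cw P w) (hy : y ∈ cw P (refl P s)) : x * y ∈ cw P (w * refl P s) := by
  have hy' := inv_mem_cw P hy
  rw [refl_inv] at hy'
  have h1 := mul_of_len_ge P s _ w⁻¹ le_rfl (by rw [len_inv, ← len_mul_refl]; exact h) _ hy'
    _ (inv_mem_cw P hx)
  have h2 := inv_mem_cw P h1
  simpa [refl_inv] using h2

theorem cw_mul {w : Weyl P} : ∀ (R : List P.S), len P (w * wprod P R) = len P w + R.length →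
    ∀ {x y : G}, x ∈ cw P w → y ∈ cw P (wprod P R) → x * y ∈ cw P (w * wprod P R) := by
  intro R
  induction R using List.reverseRecOn with
  | nil =>
    intro _ x y hx hy
    rw [wprod_nil] at hy ⊢
    rw [mul_one]
    exact mem_cw_right P ((mem_B_iff_cw_one P).2 hy) hx
  | append_singleton R t ih =>
    intro hlen x y hx hy
    rw [wprod_append, wprod_cons, wprod_nil, mul_one] at hlen hy ⊢
    rw [← mul_assoc, List.length_append, List.length_singleton] at hlen
    obtain ⟨n, hn⟩ := QuotientGroup.mk_surjective (wprod P R)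
    rw [← hn, BN.refl, ← QuotientGroup.mk_mul] at hy
    obtain ⟨b, hb, c, hc, rfl⟩ := (mem_cosetOf P).1 hy
    have h1 : len P (w * wprod P R) = len P w + R.length := by
      have hR := len_le P R
      obtain ⟨Lw, hLw, hlw⟩ := exists_reduced P w
      have h0 := len_le P (Lw ++ R)
      rw [wprod_append, hLw, List.length_append] at h0
      rcases len_mul_refl_cases (w * wprod P R) t with h | h <;> omega
    have hbn : b * n.1 ∈ cw P (wprod P R) := by
      rw [← hn]; exact mem_cw_left P hb (self_mem_cosetOf P _)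
    have h2 := cw_mul_refl (s := t) (by omega) (ih h1 hx hbn)
      (mem_cw_right P hc (s_mem_cw P t))
    rw [← mul_assoc]
    convert h2 using 1
    simp only [Subgroup.coe_mul]
    group

theorem cw_mul_min {J : Set P.S} {w u : Weyl P} (h : RRed P J w) (hu : WJ P J u) {x y : G}
    (hx : x ∈ cw P w) (hy : y ∈ cw P u) : x * y ∈ cw P (w * u) := by
  obtain ⟨R, hR, rfl, hl⟩ := exists_reduced_wJ hu
  exact cw_mul R (by rw [h.min _ hu, hl]) hx hy

end CfsgLib.StCh
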